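import Mathlib
import Cfsg.Prelude.Def_Classical
import Cfsg.Prelude.Def_LieClassical

/-!
Lib/Unitary/Basic: basic API for `Cfsg.hermForm`, `Cfsg.GU`, `Cfsg.SU` over a field with `q ^ 2` elements.
All lemmas take `hF : Fintype.card F = q ^ 2` as an explicit argument when they need it.
Actions on vectors are written `(A.1.1 : Matrix _ _ F) *ᵥ v` for `A : GU n F q`.
-/

set_option autoImplicit false
set_option linter.unusedSectionVars false

namespace Cfsg.Agent.Lib.Unitary

open Matrix Module

variable {F : Type*} [Field F] [Fintype F] {q : ℕ} {n : ℕ}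

/-! ### The parameter q -/

theorem one_lt_q (hF : Fintype.card F = q ^ 2) : 1 < q := by
  have h := Fintype.one_lt_card (α := F)
  rw [hF] at h
  rcases Nat.lt_or_ge 1 q with h1 | h1
  · exact h1
  · interval_cases q <;> simp_all

theorem q_ne_zero (hF : Fintype.card F = q ^ 2) : q ≠ 0 := by
  have := one_lt_q hF
  omega

theorem q_eq_primePow (hF : Fintype.card F = q ^ 2) :
    ∃ p k : ℕ, p.Prime ∧ CharP F p ∧ 1 ≤ k ∧ q = p ^ k := by
  obtain ⟨p, hp, m, hprime, hcard⟩ := FiniteField.card' F
  rw [hF] at hcard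
  obtain ⟨k, -, hk⟩ := (Nat.dvd_prime_pow hprime).1 ⟨q, by rw [← hcard]; ring⟩
  refine ⟨p, k, hprime, hp, ?_, hk⟩
  rcases Nat.eq_zero_or_pos k with rfl | h
  · have := one_lt_q hF
    simp_all
  · exact h

theorem add_pow_q (hF : Fintype.card F = q ^ 2) (x y : F) : (x + y) ^ q = x ^ q + y ^ q := by
  obtain ⟨p, k, hp, hc, -, rfl⟩ := q_eq_primePow hF
  have := Fact.mk hp
  exact add_pow_char_pow x y p k

/-- The involutory field automorphism `x ↦ x ^ q`, as a ring homomorphism. -/
def conj (hF : Fintype.card F = q ^ 2) : F →+* F where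
  toFun x := x ^ q
  map_one' := one_pow q
  map_mul' x y := mul_pow x y q
  map_zero' := zero_pow (q_ne_zero hF)
  map_add' := add_pow_q hF

@[simp] theorem conj_apply (hF : Fintype.card F = q ^ 2) (x : F) : conj hF x = x ^ q := rfl

theorem neg_pow_q (hF : Fintype.card F = q ^ 2) (x : F) : (-x) ^ q = -(x ^ q) :=
  map_neg (conj hF) x

theorem sub_pow_q (hF : Fintype.card F = q ^ 2) (x y : F) : (x - y) ^ q = x ^ q - y ^ q :=
  map_sub (conj hF) x y

theorem zero_pow_q (hF : Fintype.card F = q ^ 2) : (0 : F) ^ q = 0 := zero_pow (q_ne_zero hF)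

theorem pow_q_q (hF : Fintype.card F = q ^ 2) (x : F) : (x ^ q) ^ q = x := by
  rw [← pow_mul, ← sq, ← hF]
  exact FiniteField.pow_card x

theorem sum_pow_q (hF : Fintype.card F = q ^ 2) {ι : Type*} (s : Finset ι) (f : ι → F) :
    (∑ i ∈ s, f i) ^ q = ∑ i ∈ s, f i ^ q :=
  map_sum (conj hF) f s

theorem pow_q_injective (hF : Fintype.card F = q ^ 2) {x y : F} (h : x ^ q = y ^ q) : x = y := by
  rw [← pow_q_q hF x, ← pow_q_q hF y, h]

/-! ### Trace and norm to the fixed field `{x | x ^ q = x}` -/

open Polynomial in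
private theorem card_roots_le {p : F[X]} (hp : p ≠ 0) :
    Nat.card {x : F // p.eval x = 0} ≤ p.natDegree := by
  classical
  rw [Nat.card_eq_fintype_card, Fintype.card_subtype]
  refine le_trans (Finset.card_le_card ?_) (le_trans (Multiset.toFinset_card_le p.roots) p.card_roots')
  intro x hx
  simp only [Finset.mem_filter, Finset.mem_univ, true_and] at hx
  simp [mem_roots hp, hx]

/-- The additive map `x ↦ x + x ^ q`. -/
def trHom (hF : Fintype.card F = q ^ 2) : F →+ F :=
  AddMonoidHom.id F + (conj hF).toAddMonoidHom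

@[simp] theorem trHom_apply (hF : Fintype.card F = q ^ 2) (x : F) : trHom hF x = x + x ^ q := rfl

theorem card_fixed_and_trace (hF : Fintype.card F = q ^ 2) :
    Nat.card {x : F // x ^ q = x} = q ∧ Nat.card {x : F // x + x ^ q = 0} = q ∧
      ∀ y : F, y ^ q = y → ∃ x : F, x + x ^ q = y := by
  classical
  have h1q := one_lt_q hF
  set K : Set F := {x | x + x ^ q = 0} with hK
  set R : Set F := Set.range (trHom hF) with hR
  set Fx : Set F := {x | x ^ q = x} with hFx
  have hsub : R ⊆ Fx := by
    rintro _ ⟨x, rfl⟩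
    simp only [hFx, Set.mem_setOf_eq, trHom_apply, add_pow_q hF, pow_q_q hF, add_comm]
  have hle1 : Nat.card K ≤ q := by
    have hdeg : (Polynomial.X ^ q + Polynomial.X : Polynomial F).natDegree = q := by
      rw [Polynomial.natDegree_add_eq_left_of_natDegree_lt] <;> simp [h1q]
    have hne : (Polynomial.X ^ q + Polynomial.X : Polynomial F) ≠ 0 := by
      intro h; rw [h] at hdeg; simp at hdeg; omega
    refine le_trans (le_of_eq ?_) ((card_roots_le hne).trans_eq hdeg)
    apply Nat.card_congr
    exact Equiv.subtypeEquivRight fun x => by simp [hK, add_comm]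
  have hle2 : Nat.card Fx ≤ q := by
    have hne : (Polynomial.X ^ q - Polynomial.X : Polynomial F) ≠ 0 :=
      FiniteField.X_pow_card_sub_X_ne_zero F h1q
    refine le_trans (le_of_eq ?_)
      ((card_roots_le hne).trans_eq (FiniteField.X_pow_card_sub_X_natDegree_eq F h1q))
    apply Nat.card_congr
    exact Equiv.subtypeEquivRight fun x => by simp [hFx, sub_eq_zero]
  have hmul : Nat.card F = Nat.card R * Nat.card K := by
    rw [AddSubgroup.card_eq_card_quotient_mul_card_addSubgroup (trHom hF).ker,
      Nat.card_congr (QuotientAddGroup.quotientKerEquivRange (trHom hF)).toEquiv]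
    rfl
  have hR2 : Nat.card R ≤ Nat.card Fx := Nat.card_mono (Set.toFinite _) hsub
  rw [Nat.card_eq_fintype_card, hF] at hmul
  have hKq : Nat.card K = q := by nlinarith
  have hFq : Nat.card R = q := by nlinarith
  have hFx' : Nat.card Fx = q := by omega
  refine ⟨hFx', hKq, fun y hy => ?_⟩
  have heq : R = Fx :=
    Set.eq_of_subset_of_ncard_le hsub (by rw [← Nat.card_coe_set_eq, ← Nat.card_coe_set_eq]; omega)
      (Set.toFinite _)
  have : y ∈ R := by rw [heq]; exact hy
  obtain ⟨x, hx⟩ := this
  exact ⟨x, hx⟩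

theorem card_fixed (hF : Fintype.card F = q ^ 2) : Nat.card {x : F // x ^ q = x} = q :=
  (card_fixed_and_trace hF).1

theorem card_trace_zero (hF : Fintype.card F = q ^ 2) : Nat.card {x : F // x + x ^ q = 0} = q :=
  (card_fixed_and_trace hF).2.1

theorem trace_surj (hF : Fintype.card F = q ^ 2) {y : F} (hy : y ^ q = y) :
    ∃ x : F, x + x ^ q = y :=
  (card_fixed_and_trace hF).2.2 y hy

theorem exists_trace_zero_ne_zero (hF : Fintype.card F = q ^ 2) :
    ∃ c : F, c ≠ 0 ∧ c + c ^ q = 0 := by
  have hcard := card_trace_zero hF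
  have h1q := one_lt_q hF
  have : Nontrivial {x : F // x + x ^ q = 0} := by
    rw [← Finite.one_lt_card_iff_nontrivial, hcard]; exact h1q
  obtain ⟨⟨c, hc⟩, hne⟩ := exists_ne (⟨0, by simp [zero_pow_q hF]⟩ : {x : F // x + x ^ q = 0})
  exact ⟨c, fun h => hne (Subtype.ext h), hc⟩

/-- The trace form is not identically zero on any line. -/
theorem eq_zero_of_trace_mul_eq_zero (hF : Fintype.card F = q ^ 2) {a : F}
    (h : ∀ c : F, c * a + (c * a) ^ q = 0) : a = 0 := by
  by_contra ha
  obtain ⟨x, hx⟩ := trace_surj hF (y := 1) (one_pow q)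
  have := h (x / a)
  rw [div_mul_cancel₀ x ha, hx] at this
  exact one_ne_zero this

/-- The norm map `x ↦ x ^ (q + 1)` on units. -/
def normHom (F : Type*) [Field F] (q : ℕ) : Fˣ →* Fˣ := powMonoidHom (q + 1)

theorem card_normHom (hF : Fintype.card F = q ^ 2) :
    Nat.card (normHom F q).ker = q + 1 ∧
      ((normHom F q).range : Set Fˣ) = {u : Fˣ | u ^ (q - 1) = 1} := by
  classical
  have h1q := one_lt_q hF
  have hu : Nat.card Fˣ = (q + 1) * (q - 1) := by
    rw [Nat.card_eq_fintype_card, Fintype.card_units, hF, ← Nat.sq_sub_sq, one_pow]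
  have hgcd : Nat.gcd (Nat.card Fˣ) (q + 1) = q + 1 := by
    rw [hu]; exact Nat.gcd_eq_right (Dvd.intro _ rfl)
  refine ⟨?_, ?_⟩
  · unfold normHom
    rw [IsCyclic.card_powMonoidHom_ker, hgcd]
  · have hrange : Nat.card (normHom F q).range = q - 1 := by
      unfold normHom
      rw [IsCyclic.card_powMonoidHom_range, hgcd, hu, Nat.mul_div_cancel_left _ (by omega)]
    have hker : Nat.card (powMonoidHom (q - 1) : Fˣ →* Fˣ).ker = q - 1 := by
      rw [IsCyclic.card_powMonoidHom_ker, hu]
      exact Nat.gcd_eq_right (Dvd.intro_left _ rfl)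
    have hsub : (normHom F q).range ≤ (powMonoidHom (q - 1) : Fˣ →* Fˣ).ker := by
      rintro _ ⟨x, rfl⟩
      simp only [normHom, MonoidHom.mem_ker, powMonoidHom_apply]
      rw [← pow_mul, ← hu]
      exact pow_card_eq_one'
    have := Subgroup.eq_of_le_of_card_ge hsub (by rw [hker, hrange])
    rw [this]
    ext u
    simp

theorem card_norm_one (hF : Fintype.card F = q ^ 2) :
    Nat.card {x : F // x ^ (q + 1) = 1} = q + 1 := by
  refine Eq.trans (Nat.card_congr ?_) (card_normHom hF).1
  exact
    { toFun := fun x => ⟨Units.mk0 x.1 (fun h => by simpa [h] using x.2), by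
        simp only [normHom, MonoidHom.mem_ker, powMonoidHom_apply]
        ext; simpa using x.2⟩
      invFun := fun u => ⟨u.1.1, by
        have := u.2
        simp only [normHom, MonoidHom.mem_ker, powMonoidHom_apply] at this
        simpa using congrArg Units.val this⟩
      left_inv := fun x => rfl
      right_inv := fun u => by ext; rfl }

theorem norm_surj (hF : Fintype.card F = q ^ 2) {y : F} (hy : y ^ q = y) :
    ∃ x : F, x * x ^ q = y := by
  rcases eq_or_ne y 0 with rfl | hy0
  · exact ⟨0, by simp⟩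
  have h1q := one_lt_q hF
  have hmem : Units.mk0 y hy0 ∈ ((normHom F q).range : Set Fˣ) := by
    rw [(card_normHom hF).2]
    show Units.mk0 y hy0 ^ (q - 1) = 1
    ext
    simp only [Units.val_pow_eq_pow_val, Units.val_mk0, Units.val_one]
    apply mul_right_cancel₀ hy0
    rw [← pow_succ, Nat.sub_add_cancel h1q.le, hy, one_mul]
  obtain ⟨x, hx⟩ := hmem
  refine ⟨x, ?_⟩
  have := congrArg Units.val hx
  simp only [normHom, powMonoidHom_apply, Units.val_pow_eq_pow_val, Units.val_mk0] at this
  rw [← this, pow_succ']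

/-- Hilbert 90: norm-one elements are quotients `x / x ^ q`. -/
theorem exists_div_conj (hF : Fintype.card F = q ^ 2) {z : F} (hz : z * z ^ q = 1) :
    ∃ x : F, x ≠ 0 ∧ x = z * x ^ q := by
  have hz0 : z ≠ 0 := fun h => by simp [h] at hz
  by_cases hz1 : z = -1
  · obtain ⟨c, hc, hc'⟩ := exists_trace_zero_ne_zero hF
    exact ⟨c, hc, by rw [hz1, neg_one_mul, eq_neg_iff_add_eq_zero, hc']⟩
  · refine ⟨1 + z, fun h => hz1 (by linear_combination h), ?_⟩
    rw [add_pow_q hF, one_pow, mul_add, hz]; ring

/-! ### The Hermitian form -/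

variable (u v w : Fin n → F)

omit [Fintype F] in
theorem herm_add_left : hermForm n F q (u + v) w = hermForm n F q u w + hermForm n F q v w := by
  simp [hermForm, add_mul, Finset.sum_add_distrib]

omit [Fintype F] in
theorem herm_smul_left (a : F) : hermForm n F q (a • u) w = a * hermForm n F q u w := by
  simp [hermForm, mul_assoc, Finset.mul_sum]

omit [Fintype F] in
theorem herm_smul_right (a : F) : hermForm n F q u (a • w) = a ^ q * hermForm n F q u w := by
  simp only [hermForm, Finset.mul_sum, Pi.smul_apply, smul_eq_mul, mul_pow]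
  exact Finset.sum_congr rfl fun i _ => by ring

theorem herm_add_right (hF : Fintype.card F = q ^ 2) :
    hermForm n F q u (v + w) = hermForm n F q u v + hermForm n F q u w := by
  simp [hermForm, add_pow_q hF, mul_add, Finset.sum_add_distrib]

/-- `hermForm` as a sesquilinear map. -/
def hermL (hF : Fintype.card F = q ^ 2) : (Fin n → F) →ₗ[F] (Fin n → F) →ₛₗ[conj hF] F :=
  LinearMap.mk₂'ₛₗ (RingHom.id F) (conj hF) (hermForm n F q)
    (fun u v w => herm_add_left u v w) (fun a u w => herm_smul_left u w a)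
    (fun u v w => herm_add_right u v w hF) (fun a u w => herm_smul_right u w a)

@[simp] theorem hermL_apply (hF : Fintype.card F = q ^ 2) :
    hermL hF u v = hermForm n F q u v := rfl

omit [Fintype F] in
theorem herm_zero_left : hermForm n F q 0 v = 0 := by simp [hermForm]

theorem herm_zero_right (hF : Fintype.card F = q ^ 2) : hermForm n F q u 0 = 0 :=
  map_zero (hermL hF u)

omit [Fintype F] in
theorem herm_sub_left : hermForm n F q (u - v) w = hermForm n F q u w - hermForm n F q v w := by
  simp [hermForm, sub_mul, Finset.sum_sub_distrib]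

omit [Fintype F] in
theorem herm_neg_left : hermForm n F q (-u) w = -hermForm n F q u w := by
  simp [hermForm, Finset.sum_neg_distrib]

theorem herm_sub_right (hF : Fintype.card F = q ^ 2) :
    hermForm n F q u (v - w) = hermForm n F q u v - hermForm n F q u w :=
  map_sub (hermL hF u) v w

theorem herm_neg_right (hF : Fintype.card F = q ^ 2) :
    hermForm n F q u (-w) = -hermForm n F q u w :=
  map_neg (hermL hF u) w

omit [Fintype F] in
theorem herm_sum_left {ι : Type*} (s : Finset ι) (f : ι → Fin n → F) :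
    hermForm n F q (∑ i ∈ s, f i) w = ∑ i ∈ s, hermForm n F q (f i) w := by
  simp only [hermForm, Finset.sum_apply, Finset.sum_mul]
  exact Finset.sum_comm

theorem herm_sum_right (hF : Fintype.card F = q ^ 2) {ι : Type*} (s : Finset ι)
    (f : ι → Fin n → F) :
    hermForm n F q u (∑ i ∈ s, f i) = ∑ i ∈ s, hermForm n F q u (f i) :=
  map_sum (hermL hF u) f s

theorem herm_conj (hF : Fintype.card F = q ^ 2) :
    hermForm n F q u v ^ q = hermForm n F q v u := by
  simp only [hermForm, sum_pow_q hF, mul_pow, pow_q_q hF, mul_comm]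

theorem herm_self_fixed (hF : Fintype.card F = q ^ 2) :
    hermForm n F q u u ^ q = hermForm n F q u u :=
  herm_conj u u hF

theorem herm_eq_zero_symm (hF : Fintype.card F = q ^ 2) {u v : Fin n → F}
    (h : hermForm n F q u v = 0) : hermForm n F q v u = 0 := by
  rw [← herm_conj u v hF, h, zero_pow_q hF]

theorem herm_single (hF : Fintype.card F = q ^ 2) (i : Fin n) :
    hermForm n F q u (Pi.single i 1) = u i := by
  rw [hermForm, Finset.sum_eq_single i]
  · simp
  · intro j _ hj; simp [hj, zero_pow_q hF]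
  · simp

omit [Fintype F] in
theorem single_herm (i : Fin n) : hermForm n F q (Pi.single i 1) v = v i ^ q := by
  rw [hermForm, Finset.sum_eq_single i]
  · simp
  · intro j _ hj; simp [hj]
  · simp

theorem herm_nondeg_left (hF : Fintype.card F = q ^ 2) {u : Fin n → F}
    (h : ∀ v, hermForm n F q u v = 0) : u = 0 :=
  funext fun i => by rw [← herm_single u hF i]; exact h _

theorem herm_nondeg_right (hF : Fintype.card F = q ^ 2) {v : Fin n → F}
    (h : ∀ u, hermForm n F q u v = 0) : v = 0 :=
  herm_nondeg_left hF fun u => herm_eq_zero_symm hF (h u)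

theorem herm_std (hF : Fintype.card F = q ^ 2) (i j : Fin n) :
    hermForm n F q (Pi.single i (1 : F)) (Pi.single j 1) = if i = j then 1 else 0 := by
  rw [herm_single _ hF, Pi.single_apply]
  rcases eq_or_ne i j with rfl | h
  · simp
  · simp [h, h.symm]

/-! ### Orthogonal complements -/

/-- The orthogonal complement with respect to `hermForm`. -/
def perp (q : ℕ) (W : Submodule F (Fin n → F)) : Submodule F (Fin n → F) where
  carrier := {v | ∀ w ∈ W, hermForm n F q v w = 0}
  zero_mem' := fun w _ => herm_zero_left w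
  add_mem' := fun {a b} ha hb w hw => by rw [herm_add_left, ha w hw, hb w hw, add_zero]
  smul_mem' := fun c a ha w hw => by rw [herm_smul_left, ha w hw, mul_zero]

omit [Fintype F] in
theorem mem_perp {W : Submodule F (Fin n → F)} {v : Fin n → F} :
    v ∈ perp q W ↔ ∀ w ∈ W, hermForm n F q v w = 0 := Iff.rfl

theorem mem_perp_span (hF : Fintype.card F = q ^ 2) {s : Set (Fin n → F)} {v : Fin n → F} :
    v ∈ perp q (Submodule.span F s) ↔ ∀ w ∈ s, hermForm n F q v w = 0 := by
  refine ⟨fun h w hw => h w (Submodule.subset_span hw), fun h w hw => ?_⟩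
  have hle : Submodule.span F s ≤ LinearMap.ker (hermL hF v) :=
    Submodule.span_le.2 fun x hx => h x hx
  exact hle hw

theorem mem_perp_span_range (hF : Fintype.card F = q ^ 2) {ι : Type*} {b : ι → Fin n → F}
    {v : Fin n → F} :
    v ∈ perp q (Submodule.span F (Set.range b)) ↔ ∀ i, hermForm n F q v (b i) = 0 := by
  rw [mem_perp_span hF]; simp

/-- The map `v ↦ (h(v, b i))_i` for independent `b` is onto. -/
theorem pairing_surjective (hF : Fintype.card F = q ^ 2) {k : ℕ} {b : Fin k → Fin n → F}
    (hb : LinearIndependent F b) (c : Fin k → F) :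
    ∃ v, ∀ i, hermForm n F q v (b i) = c i := by
  let L : (Fin n → F) →ₗ[F] (Fin k → F) :=
    { toFun := fun v i => hermForm n F q v (b i)
      map_add' := fun x y => funext fun i => herm_add_left x y _
      map_smul' := fun a x => funext fun i => herm_smul_left x _ a }
  have hL : Function.Surjective L := by
    rw [← LinearMap.range_eq_top]
    by_contra hne
    obtain ⟨f, hf0, hfb⟩ := Submodule.exists_le_ker_of_lt_top _ (lt_top_iff_ne_top.2 hne)
    apply hf0
    set d : Fin k → F := fun i => f (Pi.single i 1) ^ q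
    have hd : ∑ i, d i • b i = 0 := by
      apply herm_nondeg_right hF
      intro v
      have hv : f (L v) = 0 := hfb ⟨v, rfl⟩
      rw [herm_sum_right _ hF, ← hv]
      conv_rhs => rw [pi_eq_sum_univ' (L v), map_sum]
      refine Finset.sum_congr rfl fun i _ => ?_
      rw [herm_smul_right, map_smul, pow_q_q hF, smul_eq_mul, mul_comm]
      rfl
    have hd0 := Fintype.linearIndependent_iff.1 hb d hd
    refine LinearMap.pi_ext fun i x => ?_
    have hfi : f (Pi.single i 1) = 0 := by
      have := hd0 i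
      exact eq_zero_of_pow_eq_zero this
    rw [show (Pi.single i x : Fin k → F) = x • Pi.single i 1 by simp [← Pi.single_smul], map_smul,
      hfi, smul_zero, LinearMap.zero_apply]
  obtain ⟨v, hv⟩ := hL c
  exact ⟨v, fun i => congrFun hv i⟩

theorem finrank_perp (hF : Fintype.card F = q ^ 2) (W : Submodule F (Fin n → F)) :
    finrank F (perp q W) + finrank F W = n := by
  set k := finrank F W
  let b := Module.finBasis F W
  let b' : Fin k → Fin n → F := fun i => (b i : Fin n → F)
  have hb : LinearIndependent F b' :=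
    b.linearIndependent.map' W.subtype (Submodule.ker_subtype W)
  let L : (Fin n → F) →ₗ[F] (Fin k → F) :=
    { toFun := fun v i => hermForm n F q v (b' i)
      map_add' := fun x y => funext fun i => herm_add_left x y _
      map_smul' := fun a x => funext fun i => herm_smul_left x _ a }
  have hL : Function.Surjective L := fun c => by
    obtain ⟨v, hv⟩ := pairing_surjective hF hb c
    exact ⟨v, funext hv⟩
  have hker : LinearMap.ker L = perp q W := by
    have hW : W = Submodule.span F (Set.range b') := by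
      rw [show Set.range b' = W.subtype '' Set.range b by rw [← Set.range_comp]; rfl,
        ← Submodule.map_span, b.span_eq, Submodule.map_subtype_top]
    ext v
    conv_rhs => rw [hW, mem_perp_span_range hF]
    rw [LinearMap.mem_ker]
    exact funext_iff
  have h := L.finrank_range_add_finrank_ker
  rw [LinearMap.range_eq_top.2 hL, hker, finrank_top, finrank_fin_fun, finrank_fin_fun] at h
  omega

theorem perp_perp (hF : Fintype.card F = q ^ 2) (W : Submodule F (Fin n → F)) :
    perp q (perp q W) = W := by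
  have hle : W ≤ perp q (perp q W) := fun w hw v hv => herm_eq_zero_symm hF (hv w hw)
  refine (Submodule.eq_of_le_of_finrank_eq hle ?_).symm
  have h1 := finrank_perp hF W
  have h2 := finrank_perp hF (perp q W)
  omega

/-- A subspace is nondegenerate. -/
def Nondeg (q : ℕ) (W : Submodule F (Fin n → F)) : Prop :=
  ∀ u ∈ W, (∀ v ∈ W, hermForm n F q u v = 0) → u = 0

omit [Fintype F] in
theorem nondeg_iff_disjoint {W : Submodule F (Fin n → F)} :
    Nondeg q W ↔ W ⊓ perp q W = ⊥ := by
  rw [Submodule.eq_bot_iff]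
  exact ⟨fun h u hu => h u hu.1 hu.2, fun h u hu hv => h u ⟨hu, hv⟩⟩

theorem isCompl_perp (hF : Fintype.card F = q ^ 2) {W : Submodule F (Fin n → F)}
    (hW : Nondeg q W) : IsCompl W (perp q W) := by
  have hd : Disjoint W (perp q W) := disjoint_iff.2 (nondeg_iff_disjoint.1 hW)
  refine ⟨hd, ?_⟩
  rw [codisjoint_iff]
  apply Submodule.eq_top_of_finrank_eq
  have h1 := finrank_perp hF W
  have h2 := Submodule.finrank_sup_add_finrank_inf_eq W (perp q W)
  rw [disjoint_iff.1 hd, finrank_bot] at h2
  rw [finrank_fin_fun]; omega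

theorem nondeg_perp (hF : Fintype.card F = q ^ 2) {W : Submodule F (Fin n → F)}
    (hW : Nondeg q W) : Nondeg q (perp q W) := by
  rw [nondeg_iff_disjoint, perp_perp hF, inf_comm]
  exact nondeg_iff_disjoint.1 hW

omit [Fintype F] in
theorem nondeg_top (h : ∀ u : Fin n → F, (∀ v, hermForm n F q u v = 0) → u = 0) :
    Nondeg q (⊤ : Submodule F (Fin n → F)) :=
  fun u _ hu => h u fun v => hu v trivial

/-- A nonzero nondegenerate subspace has a vector of norm one. -/
theorem exists_norm_one_of_nondeg (hF : Fintype.card F = q ^ 2) {W : Submodule F (Fin n → F)}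
    (hW : Nondeg q W) (hne : W ≠ ⊥) : ∃ w ∈ W, hermForm n F q w w = 1 := by
  obtain ⟨u, hu, hu0⟩ := Submodule.exists_mem_ne_zero_of_ne_bot hne
  have : ∃ w ∈ W, hermForm n F q w w ≠ 0 := by
    by_contra hall
    push Not at hall
    refine hu0 (hW u hu fun v hv => eq_zero_of_trace_mul_eq_zero hF fun c => ?_)
    have h := hall (c • u + v) (W.add_mem (W.smul_mem c hu) hv)
    simp only [herm_add_left, herm_add_right _ _ _ hF, herm_smul_left, herm_smul_right,
      hall u hu, hall v hv, mul_zero, add_zero, zero_add] at h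
    rw [mul_pow, herm_conj u v hF]
    linear_combination h
  obtain ⟨w, hw, hw0⟩ := this
  obtain ⟨x, hx⟩ := norm_surj hF (y := (hermForm n F q w w)⁻¹) (by
    rw [inv_pow, herm_self_fixed w hF])
  refine ⟨x • w, W.smul_mem x hw, ?_⟩
  rw [herm_smul_left, herm_smul_right, ← mul_assoc, hx, inv_mul_cancel₀ hw0]

/-! ### Orthonormal families -/

/-- An orthonormal family. -/
def Orthonormal' (q : ℕ) {ι : Type*} [DecidableEq ι] (f : ι → Fin n → F) : Prop :=
  ∀ i j, hermForm n F q (f i) (f j) = if i = j then 1 else 0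

omit [Fintype F] in
theorem orthonormal_coeff {ι : Type*} [Fintype ι] [DecidableEq ι] {f : ι → Fin n → F}
    (hf : Orthonormal' q f) (c : ι → F) (j : ι) :
    hermForm n F q (∑ i, c i • f i) (f j) = c j := by
  simp [herm_sum_left, herm_smul_left, hf _ _]

omit [Fintype F] in
theorem orthonormal_linearIndependent {ι : Type*} [Fintype ι] [DecidableEq ι]
    {f : ι → Fin n → F} (hf : Orthonormal' q f) : LinearIndependent F f :=
  Fintype.linearIndependent_iff.2 fun c hc j => by
    rw [← orthonormal_coeff hf c j, hc, herm_zero_left]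

theorem orthonormal_nondeg_span {k : ℕ} {f : Fin k → Fin n → F} (hf : Orthonormal' q f) :
    Nondeg q (Submodule.span F (Set.range f)) := by
  intro u hu h
  obtain ⟨c, rfl⟩ := (Submodule.mem_span_range_iff_exists_fun F).1 hu
  have : c = 0 := funext fun j => by
    rw [← orthonormal_coeff hf c j]; exact h _ (Submodule.subset_span ⟨j, rfl⟩)
  simp [this]

theorem exists_orthonormal_of_nondeg (hF : Fintype.card F = q ^ 2) :
    ∀ (k : ℕ) (W : Submodule F (Fin n → F)), finrank F W = k → Nondeg q W →
      ∃ f : Fin k → Fin n → F, Orthonormal' q f ∧ (∀ i, f i ∈ W) ∧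
        Submodule.span F (Set.range f) = W := by
  intro k
  induction k with
  | zero =>
    intro W hk _
    refine ⟨Fin.elim0, fun i => i.elim0, fun i => i.elim0, ?_⟩
    rw [Submodule.finrank_eq_zero.1 hk]
    simp
  | succ k ih =>
    intro W hk hW
    have hne : W ≠ ⊥ := fun h => by rw [h, finrank_bot] at hk; omega
    obtain ⟨w, hwW, hw⟩ := exists_norm_one_of_nondeg hF hW hne
    set W' := W ⊓ perp q (Submodule.span F {w})
    have hmem : ∀ {v}, v ∈ W' ↔ v ∈ W ∧ hermForm n F q v w = 0 := by
      intro v; simp [W', mem_perp_span hF]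
    have hdec : ∀ v ∈ W, v - hermForm n F q v w • w ∈ W' := fun v hv => hmem.2
      ⟨W.sub_mem hv (W.smul_mem _ hwW), by rw [herm_sub_left, herm_smul_left, hw, mul_one, sub_self]⟩
    have hsup : W' ⊔ Submodule.span F {w} = W := by
      refine le_antisymm (sup_le inf_le_left ((Submodule.span_singleton_le_iff_mem _ _).2 hwW)) ?_
      intro v hv
      exact Submodule.mem_sup.2 ⟨_, hdec v hv, _,
        Submodule.smul_mem _ _ (Submodule.mem_span_singleton_self w), sub_add_cancel _ _⟩
    have hinf : W' ⊓ Submodule.span F {w} = ⊥ := by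
      rw [Submodule.eq_bot_iff]
      rintro v ⟨hv1, hv2⟩
      obtain ⟨a, rfl⟩ := Submodule.mem_span_singleton.1 hv2
      have := (hmem.1 hv1).2
      rw [herm_smul_left, hw, mul_one] at this
      simp [this]
    have hk' : finrank F W' = k := by
      have h := Submodule.finrank_sup_add_finrank_inf_eq W' (Submodule.span F {w})
      rw [hsup, hinf, finrank_bot, hk, finrank_span_singleton
        (fun h0 : w = 0 => by simp [h0, herm_zero_left] at hw)] at h
      omega
    have hW' : Nondeg q W' := by
      intro u hu h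
      refine hW u (hmem.1 hu).1 fun v hv => ?_
      have h1 := h _ (hdec v hv)
      rwa [herm_sub_right _ _ _ hF, herm_smul_right, (hmem.1 hu).2, mul_zero, sub_zero] at h1
    obtain ⟨f, hf, hfW, hspan⟩ := ih W' hk' hW'
    refine ⟨Fin.cons w f, ?_, ?_, ?_⟩
    · intro i j
      refine Fin.cases ?_ (fun i => ?_) i <;> refine Fin.cases ?_ (fun j => ?_) j
      · simpa using hw
      · simpa [(Fin.succ_ne_zero j).symm] using herm_eq_zero_symm hF (hmem.1 (hfW j)).2
      · simpa [Fin.succ_ne_zero i] using (hmem.1 (hfW i)).2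
      · simpa [Fin.succ_inj] using hf i j
    · exact Fin.cases (by simpa using hwW) (fun i => by simpa using (hmem.1 (hfW i)).1)
    · rw [Fin.range_cons, Submodule.span_insert, hspan, sup_comm, hsup]

/-- An orthonormal family extends to an orthonormal basis. -/
theorem orthonormal_extend (hF : Fintype.card F = q ^ 2) {k l : ℕ} (hkl : k + l = n)
    {f : Fin k → Fin n → F} (hf : Orthonormal' q f) :
    ∃ g : Fin l → Fin n → F, Orthonormal' q g ∧ ∀ i j, hermForm n F q (g i) (f j) = 0 := by
  set W := Submodule.span F (Set.range f)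
  have hWk : finrank F W = k := by
    rw [finrank_span_eq_card (orthonormal_linearIndependent hf), Fintype.card_fin]
  have hl : finrank F (perp q W) = l := by
    have := finrank_perp hF W; omega
  obtain ⟨g, hg, hgW, -⟩ := exists_orthonormal_of_nondeg hF l (perp q W) hl
    (nondeg_perp hF (orthonormal_nondeg_span hf))
  exact ⟨g, hg, fun i j => hgW i _ (Submodule.subset_span ⟨j, rfl⟩)⟩

/-! ### The groups GU and SU -/

omit [Fintype F] in
theorem mem_GU_iff {A : Matrix.GeneralLinearGroup (Fin n) F} :
    A ∈ GU n F q ↔ ∀ u v, hermForm n F q (A.1 *ᵥ u) (A.1 *ᵥ v) = hermForm n F q u v := Iff.rfl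

omit [Fintype F] in
theorem mem_SU_iff {A : Matrix.SpecialLinearGroup (Fin n) F} :
    A ∈ SU n F q ↔ ∀ u v, hermForm n F q (A.1 *ᵥ u) (A.1 *ᵥ v) = hermForm n F q u v := Iff.rfl

omit [Fintype F] in
theorem GU_herm (A : GU n F q) :
    hermForm n F q (A.1.1 *ᵥ u) (A.1.1 *ᵥ v) = hermForm n F q u v := A.2 u v

theorem det_ne_zero_of_preserving (hF : Fintype.card F = q ^ 2) {M : Matrix (Fin n) (Fin n) F}
    (hM : ∀ u v, hermForm n F q (M *ᵥ u) (M *ᵥ v) = hermForm n F q u v) : M.det ≠ 0 := by
  intro h
  obtain ⟨v, hv, hv'⟩ := Matrix.exists_mulVec_eq_zero_iff.2 h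
  exact hv (herm_nondeg_left hF fun w => by rw [← hM v w, hv', herm_zero_left])

/-- The element of GU with a given matrix. -/
noncomputable def mkGU (hF : Fintype.card F = q ^ 2) (M : Matrix (Fin n) (Fin n) F)
    (hM : ∀ u v, hermForm n F q (M *ᵥ u) (M *ᵥ v) = hermForm n F q u v) : GU n F q :=
  ⟨Matrix.GeneralLinearGroup.mkOfDetNeZero M (det_ne_zero_of_preserving hF hM), hM⟩

@[simp] theorem mkGU_val (hF : Fintype.card F = q ^ 2) (M : Matrix (Fin n) (Fin n) F)
    (hM : ∀ u v, hermForm n F q (M *ᵥ u) (M *ᵥ v) = hermForm n F q u v) :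
    ((mkGU hF M hM).1.1 : Matrix (Fin n) (Fin n) F) = M := rfl

omit [Fintype F] in
theorem GU_ext {A B : GU n F q} (h : ∀ v, A.1.1 *ᵥ v = B.1.1 *ᵥ v) : A = B :=
  Subtype.ext (Units.ext (Matrix.toLin'.injective (LinearMap.ext fun v => by simpa using h v)))

omit [Fintype F] in
theorem GU_ext_col {A B : GU n F q} (h : ∀ i, A.1.1 *ᵥ Pi.single i 1 = B.1.1 *ᵥ Pi.single i 1) :
    A = B := by
  refine Subtype.ext (Units.ext ?_)
  ext i j
  simpa using congrFun (h j) i

omit [Fintype F] in
@[simp] theorem GU_one_mulVec : (1 : GU n F q).1.1 *ᵥ v = v := by simp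

omit [Fintype F] in
theorem GU_mul_mulVec (A B : GU n F q) : (A * B).1.1 *ᵥ v = A.1.1 *ᵥ (B.1.1 *ᵥ v) := by
  simp [Matrix.mulVec_mulVec]

omit [Fintype F] in
theorem GU_inv_mulVec (A : GU n F q) : A⁻¹.1.1 *ᵥ (A.1.1 *ᵥ v) = v := by
  rw [← GU_mul_mulVec, inv_mul_cancel, GU_one_mulVec]

omit [Fintype F] in
theorem GU_mulVec_inv (A : GU n F q) : A.1.1 *ᵥ (A⁻¹.1.1 *ᵥ v) = v := by
  rw [← GU_mul_mulVec, mul_inv_cancel, GU_one_mulVec]

omit [Fintype F] in
theorem GU_mulVec_injective (A : GU n F q) : Function.Injective (fun x => A.1.1 *ᵥ x) :=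
  Function.LeftInverse.injective (g := fun x => A⁻¹.1.1 *ᵥ x) fun x => GU_inv_mulVec x A

/-- Columns of an orthonormal tuple form a unitary matrix. -/
theorem preserving_of_orthonormal (hF : Fintype.card F = q ^ 2) {f : Fin n → Fin n → F}
    (hf : Orthonormal' q f) (u v : Fin n → F) :
    hermForm n F q ((Matrix.of f)ᵀ *ᵥ u) ((Matrix.of f)ᵀ *ᵥ v) = hermForm n F q u v := by
  have key : ∀ w : Fin n → F, (Matrix.of f)ᵀ *ᵥ w = ∑ i, w i • f i := fun w => by
    rw [Matrix.mulVec_eq_sum]
    exact Finset.sum_congr rfl fun i _ => by ext j; simp [mul_comm]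
  rw [key, key, herm_sum_left, hermForm]
  refine Finset.sum_congr rfl fun i _ => ?_
  simp [herm_smul_left, herm_sum_right _ hF, herm_smul_right, hf _ _, mul_comm]

/-- `GU n` is in bijection with orthonormal `n`-tuples, through columns. -/
noncomputable def GUEquivOrthonormal (hF : Fintype.card F = q ^ 2) :
    GU n F q ≃ {f : Fin n → Fin n → F // Orthonormal' q f} where
  toFun A := ⟨fun i => A.1.1 *ᵥ Pi.single i 1, fun i j => by rw [GU_herm, herm_std hF]⟩
  invFun f := mkGU hF (Matrix.of f.1)ᵀ (preserving_of_orthonormal hF f.2)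
  left_inv A := by
    refine GU_ext_col fun i => ?_
    ext j
    simp
  right_inv f := by
    ext i j
    simp

theorem exists_GU_cols (hF : Fintype.card F = q ^ 2) {f : Fin n → Fin n → F}
    (hf : Orthonormal' q f) : ∃ A : GU n F q, ∀ i, A.1.1 *ᵥ Pi.single i 1 = f i := by
  refine ⟨(GUEquivOrthonormal hF).symm ⟨f, hf⟩, fun i => ?_⟩
  exact congrFun (congrArg Subtype.val ((GUEquivOrthonormal hF).apply_symm_apply ⟨f, hf⟩)) i

/-- Determinant on `GU`. -/
noncomputable def detGU (n : ℕ) (F : Type*) [Field F] (q : ℕ) : GU n F q →* Fˣ :=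
  Matrix.GeneralLinearGroup.det.comp (GU n F q).subtype

omit [Fintype F] in
@[simp] theorem detGU_val (A : GU n F q) : (detGU n F q A : F) = A.1.1.det := rfl

/-- The inclusion of `SU` in `GU`. -/
noncomputable def suToGU (n : ℕ) (F : Type*) [Field F] (q : ℕ) : SU n F q →* GU n F q :=
  (Matrix.SpecialLinearGroup.toGL.comp (SU n F q).subtype).codRestrict (GU n F q) fun A => A.2

omit [Fintype F] in
@[simp] theorem suToGU_val (A : SU n F q) :
    ((suToGU n F q A).1.1 : Matrix (Fin n) (Fin n) F) = A.1.1 := rfl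

omit [Fintype F] in
theorem suToGU_injective : Function.Injective (suToGU n F q) := fun _ _ h =>
  Subtype.ext (Subtype.ext (congrArg (fun X : GU n F q => X.1.1) h))

omit [Fintype F] in
theorem suToGU_range : (suToGU n F q).range = (detGU n F q).ker := by
  ext A
  constructor
  · rintro ⟨B, rfl⟩
    rw [MonoidHom.mem_ker]
    ext
    simpa using B.1.2
  · intro h
    refine ⟨⟨⟨A.1.1, ?_⟩, A.2⟩, Subtype.ext (Units.ext rfl)⟩
    simpa using congrArg Units.val (MonoidHom.mem_ker.1 h)

end Cfsg.Agent.Lib.Unitary
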