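import Mathlib
import Cfsg.Agent.Lib.Unitary.Basic

/-!
Lib/Unitary/Witt: transitivity of `GU` and `SU` on bases with a given Gram matrix, on norm-one
vectors, on hyperbolic pairs and on orthogonal isotropic pairs; rank-one maps and their determinants.
-/

set_option autoImplicit false
set_option linter.unusedSectionVars false

namespace Cfsg.Agent.Lib.Unitary

open Matrix Module

variable {F : Type*} [Field F] [Fintype F] {q : ℕ} {n : ℕ}

/-! ### Gram matrices -/

theorem herm_sum_sum (hF : Fintype.card F = q ^ 2) {ι : Type*} [Fintype ι] (b : ι → Fin n → F)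
    (x y : ι → F) :
    hermForm n F q (∑ i, x i • b i) (∑ j, y j • b j) =
      ∑ i, ∑ j, x i * y j ^ q * hermForm n F q (b i) (b j) := by
  rw [herm_sum_left]
  refine Finset.sum_congr rfl fun i _ => ?_
  rw [herm_sum_right _ hF]
  refine Finset.sum_congr rfl fun j _ => ?_
  rw [herm_smul_left, herm_smul_right]; ring

/-- An element of GU mapping an independent family of full size to one with the same Gram matrix. -/
theorem exists_GU_of_gram (hF : Fintype.card F = q ^ 2) {ι : Type*} [Fintype ι]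
    {b c : ι → Fin n → F} (hb : LinearIndependent F b) (hι : Fintype.card ι = n)
    (hg : ∀ i j, hermForm n F q (b i) (b j) = hermForm n F q (c i) (c j)) :
    ∃ A : GU n F q, ∀ i, A.1.1 *ᵥ b i = c i := by
  classical
  have hsp : Submodule.span F (Set.range b) = ⊤ :=
    hb.span_eq_top_of_card_eq_finrank' (by rw [hι, finrank_fin_fun])
  let B := Module.Basis.mk hb hsp.ge
  let L := B.constr F c
  have hB : ∀ i, B i = b i := fun i => by simp [B]
  have hL : ∀ i, LinearMap.toMatrix' L *ᵥ b i = c i := fun i => by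
    rw [LinearMap.toMatrix'_mulVec, ← hB, Module.Basis.constr_basis]
  have hpres : ∀ u v, hermForm n F q (LinearMap.toMatrix' L *ᵥ u) (LinearMap.toMatrix' L *ᵥ v) =
      hermForm n F q u v := by
    intro u v
    have h1 : ∀ w, w = ∑ i, B.repr w i • b i := fun w => by
      conv_lhs => rw [← B.sum_repr w]
      simp [hB]
    rw [h1 u, h1 v, Matrix.mulVec_sum, Matrix.mulVec_sum]
    simp only [Matrix.mulVec_smul, hL]
    rw [herm_sum_sum hF, herm_sum_sum hF]
    simp [hg]
  exact ⟨mkGU hF _ hpres, fun i => by simpa using hL i⟩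

theorem exists_GU_orthonormal (hF : Fintype.card F = q ^ 2) {k : ℕ} (hk : k ≤ n)
    {f g : Fin k → Fin n → F} (hf : Orthonormal' q f) (hg : Orthonormal' q g) :
    ∃ A : GU n F q, ∀ i, A.1.1 *ᵥ f i = g i := by
  obtain ⟨f', hf', hff⟩ := orthonormal_extend hF (Nat.add_sub_cancel' hk) hf
  obtain ⟨g', hg', hgg⟩ := orthonormal_extend hF (Nat.add_sub_cancel' hk) hg
  have hb : Orthonormal' q (Sum.elim f f') := by
    rintro (i | i) (j | j)
    · simpa using hf i j
    · simpa using herm_eq_zero_symm hF (hff j i)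
    · simpa using hff i j
    · simpa using hf' i j
  have hc : Orthonormal' q (Sum.elim g g') := by
    rintro (i | i) (j | j)
    · simpa using hg i j
    · simpa using herm_eq_zero_symm hF (hgg j i)
    · simpa using hgg i j
    · simpa using hg' i j
  obtain ⟨A, hA⟩ := exists_GU_of_gram hF (orthonormal_linearIndependent hb) (c := Sum.elim g g')
    (by simp; omega) (fun i j => by rw [hb i j, hc i j])
  exact ⟨A, fun i => hA (Sum.inl i)⟩

theorem exists_GU_norm_one (hF : Fintype.card F = q ^ 2) {x y : Fin n → F}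
    (hx : hermForm n F q x x = 1) (hy : hermForm n F q y y = 1) :
    ∃ A : GU n F q, A.1.1 *ᵥ x = y := by
  have hn : 1 ≤ n := by
    rcases Nat.eq_zero_or_pos n with rfl | h
    · simp [hermForm] at hx
    · exact h
  obtain ⟨A, hA⟩ := exists_GU_orthonormal hF hn (f := ![x]) (g := ![y])
    (fun i j => by fin_cases i; fin_cases j; simpa using hx)
    (fun i j => by fin_cases i; fin_cases j; simpa using hy)
  exact ⟨A, hA 0⟩

/-! ### Rank-one maps -/

/-- The matrix of `v ↦ v + a h(v, y) x`. -/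
def rk1 (q : ℕ) (a : F) (x y : Fin n → F) : Matrix (Fin n) (Fin n) F :=
  1 + a • Matrix.vecMulVec x (fun j => y j ^ q)

theorem rk1_mulVec (a : F) (x y v : Fin n → F) :
    rk1 q a x y *ᵥ v = v + (a * hermForm n F q v y) • x := by
  ext i
  simp [rk1, Matrix.add_mulVec, Matrix.smul_mulVec, Matrix.vecMulVec_mulVec, hermForm, dotProduct,
    mul_comm, mul_left_comm]

theorem rk1_det (a : F) (x y : Fin n → F) :
    (rk1 q a x y).det = 1 + a * hermForm n F q x y := by
  rw [rk1, ← Matrix.smul_vecMulVec, Matrix.vecMulVec_eq (Fin 1), Matrix.det_one_add_mul_comm,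
    Matrix.det_unique]
  simp [Matrix.mul_apply, hermForm, Finset.mul_sum]
  exact Finset.sum_congr rfl fun i _ => by ring

/-- An element of GU scaling the norm-one vector `x` by `z` and fixing its orthogonal. -/
theorem exists_GU_scale (hF : Fintype.card F = q ^ 2) {x : Fin n → F}
    (hx : hermForm n F q x x = 1) {z : F} (hz : z * z ^ q = 1) :
    ∃ A : GU n F q, A.1.1.det = z ∧ A.1.1 *ᵥ x = z • x ∧
      ∀ v, hermForm n F q v x = 0 → A.1.1 *ᵥ v = v := by
  have hpres : ∀ u v, hermForm n F q (rk1 q (z - 1) x x *ᵥ u) (rk1 q (z - 1) x x *ᵥ v) =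
      hermForm n F q u v := by
    intro u v
    simp only [rk1_mulVec, herm_add_left, herm_add_right _ _ _ hF, herm_smul_left, herm_smul_right,
      hx, mul_one, mul_pow, sub_pow_q hF, one_pow, herm_conj v x hF]
    linear_combination (hermForm n F q u x * hermForm n F q x v) * hz
  refine ⟨mkGU hF _ hpres, ?_, ?_, fun v hv => ?_⟩
  · rw [mkGU_val, rk1_det, hx]; ring
  · rw [mkGU_val, rk1_mulVec, hx, mul_one, sub_smul, one_smul, add_sub_cancel]
  · rw [mkGU_val, rk1_mulVec, hv, mul_zero, zero_smul, add_zero]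

theorem det_norm_one (hF : Fintype.card F = q ^ 2) (A : GU n F q) :
    A.1.1.det * A.1.1.det ^ q = 1 := by
  set M : Matrix (Fin n) (Fin n) F := A.1.1
  have h : (M.map (conj hF))ᵀ * M = 1 := by
    ext i j
    have h1 := GU_herm (Pi.single j 1) (Pi.single i 1) A
    rw [herm_std hF] at h1
    simpa [Matrix.mul_apply, hermForm, Matrix.one_apply, eq_comm, mul_comm, M] using h1
  have := congrArg Matrix.det h
  rw [Matrix.det_mul, Matrix.det_transpose, Matrix.det_one, ← RingHom.mapMatrix_apply,
    ← RingHom.map_det, conj_apply, mul_comm] at this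
  exact this

theorem inv_norm_one (hF : Fintype.card F = q ^ 2) {z : F} (hz : z * z ^ q = 1) :
    z⁻¹ * z⁻¹ ^ q = 1 := by
  rw [inv_pow, ← mul_inv, hz, inv_one]

theorem exists_GU_det (hF : Fintype.card F = q ^ 2) (hn : 1 ≤ n) {z : F} (hz : z * z ^ q = 1) :
    ∃ A : GU n F q, A.1.1.det = z := by
  obtain ⟨A, hA, -, -⟩ := exists_GU_scale hF (x := Pi.single (⟨0, hn⟩ : Fin n) 1)
    (by simp [herm_std hF]) hz
  exact ⟨A, hA⟩

/-! ### Hyperbolic pairs -/

/-- A hyperbolic pair. -/
def Hyp (q : ℕ) (e f : Fin n → F) : Prop :=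
  hermForm n F q e e = 0 ∧ hermForm n F q f f = 0 ∧ hermForm n F q e f = 1

theorem Hyp.symm' (hF : Fintype.card F = q ^ 2) {e f : Fin n → F} (h : Hyp q e f) :
    hermForm n F q f e = 1 := by
  rw [← herm_conj e f hF, h.2.2, one_pow]

theorem Hyp.swap (hF : Fintype.card F = q ^ 2) {e f : Fin n → F} (h : Hyp q e f) : Hyp q f e :=
  ⟨h.2.1, h.1, h.symm' hF⟩

/-- A vector with pairing one against isotropic `e` can be made isotropic along `e`. -/
theorem exists_isotropic_shift (hF : Fintype.card F = q ^ 2) {e x : Fin n → F}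
    (he : hermForm n F q e e = 0) (hex : hermForm n F q e x ≠ 0) :
    ∃ a : F, hermForm n F q (x + a • e) (x + a • e) = 0 := by
  obtain ⟨t, ht⟩ := trace_surj hF (y := -hermForm n F q x x) (by
    rw [neg_pow_q hF, herm_self_fixed x hF])
  refine ⟨t / hermForm n F q e x, ?_⟩
  simp only [herm_add_left, herm_add_right _ _ _ hF, herm_smul_left, herm_smul_right, he, mul_zero,
    add_zero]
  rw [div_mul_cancel₀ t hex, ← herm_conj e x hF, ← mul_pow, div_mul_cancel₀ t hex]
  linear_combination ht

/-- Partner of an isotropic member of an independent family, orthogonal to the others. -/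
theorem exists_partner (hF : Fintype.card F = q ^ 2) {k : ℕ} {b : Fin k → Fin n → F}
    (hb : LinearIndependent F b) (j : Fin k) (hj : ∀ i, hermForm n F q (b i) (b j) = 0) :
    ∃ f, Hyp q (b j) f ∧ ∀ i, i ≠ j → hermForm n F q f (b i) = 0 := by
  obtain ⟨x, hx⟩ := pairing_surjective hF hb (Pi.single j 1)
  have hxj : hermForm n F q (b j) x = 1 := by rw [← herm_conj x (b j) hF, hx]; simp
  obtain ⟨a, ha⟩ := exists_isotropic_shift hF (hj j) (x := x) (by rw [hxj]; exact one_ne_zero)
  refine ⟨x + a • b j, ⟨hj j, ha, ?_⟩, fun i hi => ?_⟩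
  · rw [herm_add_right _ _ _ hF, herm_smul_right, hj, mul_zero, add_zero, hxj]
  · rw [herm_add_left, herm_smul_left, hx, herm_eq_zero_symm hF (hj i), Pi.single_eq_of_ne hi,
      mul_zero, add_zero]

theorem exists_hyp (hF : Fintype.card F = q ^ 2) {e : Fin n → F} (he0 : e ≠ 0)
    (he : hermForm n F q e e = 0) : ∃ f, Hyp q e f := by
  obtain ⟨f, hf, -⟩ := exists_partner hF (b := ![e]) (by simp [he0]) 0
    (fun i => by fin_cases i; simpa using he)
  exact ⟨f, by simpa using hf⟩

theorem Hyp.nondeg (hF : Fintype.card F = q ^ 2) {e f : Fin n → F} (h : Hyp q e f) :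
    Nondeg q (Submodule.span F {e, f}) := by
  intro u hu hv
  obtain ⟨a, b, rfl⟩ := Submodule.mem_span_pair.1 hu
  have h1 := hv f (Submodule.subset_span (by simp))
  have h2 := hv e (Submodule.subset_span (by simp))
  simp only [herm_add_left, herm_smul_left, h.1, h.2.1, h.2.2, h.symm' hF, mul_zero, mul_one,
    zero_add, add_zero] at h1 h2
  simp [h1, h2]

theorem Hyp.finrank_span (hF : Fintype.card F = q ^ 2) {e f : Fin n → F} (h : Hyp q e f) :
    LinearIndependent F ![e, f] ∧ finrank F (Submodule.span F {e, f}) = 2 := by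
  have hli : LinearIndependent F ![e, f] := by
    rw [LinearIndependent.pair_iff]
    intro a b hab
    have h1 := congrArg (fun v => hermForm n F q v f) hab
    have h2 := congrArg (fun v => hermForm n F q v e) hab
    simp only [herm_add_left, herm_smul_left, herm_zero_left, h.1, h.2.1, h.2.2, h.symm' hF,
      mul_zero, mul_one, zero_add, add_zero] at h1 h2
    exact ⟨h1, h2⟩
  refine ⟨hli, ?_⟩
  rw [show ({e, f} : Set (Fin n → F)) = Set.range ![e, f] by simp [Set.pair_comm],
    finrank_span_eq_card hli, Fintype.card_fin]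

theorem Hyp.two_le (hF : Fintype.card F = q ^ 2) {e f : Fin n → F} (h : Hyp q e f) : 2 ≤ n := by
  simpa using (h.finrank_span hF).1.fintype_card_le_finrank

/-- Orthonormal basis of the orthogonal of a hyperbolic pair. -/
theorem Hyp.exists_complement (hF : Fintype.card F = q ^ 2) {e f : Fin n → F} (h : Hyp q e f) :
    ∃ g : Fin (n - 2) → Fin n → F, Orthonormal' q g ∧
      (∀ i, hermForm n F q (g i) e = 0 ∧ hermForm n F q (g i) f = 0) ∧
      LinearIndependent F (Sum.elim ![e, f] g) := by
  have hk : finrank F (perp q (Submodule.span F {e, f})) = n - 2 := by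
    have := finrank_perp hF (Submodule.span F {e, f})
    rw [(h.finrank_span hF).2] at this; omega
  obtain ⟨g, hg, hgW, -⟩ := exists_orthonormal_of_nondeg hF _ _ hk (nondeg_perp hF (h.nondeg hF))
  have horth : ∀ i, hermForm n F q (g i) e = 0 ∧ hermForm n F q (g i) f = 0 := fun i =>
    ⟨hgW i _ (Submodule.subset_span (by simp)), hgW i _ (Submodule.subset_span (by simp))⟩
  refine ⟨g, hg, horth, ?_⟩
  refine linearIndependent_sum.2 ⟨(h.finrank_span hF).1, orthonormal_linearIndependent hg, ?_⟩
  simp only [Sum.elim_comp_inl, Sum.elim_comp_inr]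
  refine Disjoint.mono (le_of_eq (by simp [Set.pair_comm])) ?_
    (isCompl_perp hF (h.nondeg hF)).disjoint
  exact Submodule.span_le.2 (Set.range_subset_iff.2 hgW)

/-- GU is transitive on hyperbolic pairs, and so is SU when `n ≥ 3`. -/
theorem exists_GU_hyp (hF : Fintype.card F = q ^ 2) {e f e' f' : Fin n → F}
    (h : Hyp q e f) (h' : Hyp q e' f') :
    ∃ A : GU n F q, A.1.1 *ᵥ e = e' ∧ A.1.1 *ᵥ f = f' := by
  obtain ⟨g, hg, ho, hli⟩ := h.exists_complement hF
  obtain ⟨g', hg', ho', -⟩ := h'.exists_complement hF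
  have h2 := h.two_le hF
  obtain ⟨A, hA⟩ := exists_GU_of_gram hF hli (c := Sum.elim ![e', f'] g') (by simp; omega) (by
    rintro (i | i) (j | j)
    · fin_cases i <;> fin_cases j <;>
        simp [h.1, h.2.1, h.2.2, h.symm' hF, h'.1, h'.2.1, h'.2.2, h'.symm' hF]
    · fin_cases i <;> simp [herm_eq_zero_symm hF (ho j).1, herm_eq_zero_symm hF (ho j).2,
        herm_eq_zero_symm hF (ho' j).1, herm_eq_zero_symm hF (ho' j).2]
    · fin_cases j <;> simp [(ho i).1, (ho i).2, (ho' i).1, (ho' i).2]
    · simp [hg i j, hg' i j])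
  exact ⟨A, by simpa using hA (Sum.inl 0), by simpa using hA (Sum.inl 1)⟩

theorem exists_SU_hyp (hF : Fintype.card F = q ^ 2) (hn : 3 ≤ n) {e f e' f' : Fin n → F}
    (h : Hyp q e f) (h' : Hyp q e' f') :
    ∃ A : GU n F q, A.1.1.det = 1 ∧ A.1.1 *ᵥ e = e' ∧ A.1.1 *ᵥ f = f' := by
  obtain ⟨A, hAe, hAf⟩ := exists_GU_hyp hF h h'
  obtain ⟨g, hg, ho, -⟩ := h.exists_complement hF
  have i : Fin (n - 2) := ⟨0, by omega⟩
  obtain ⟨B, hBdet, -, hBfix⟩ := exists_GU_scale hF (x := g i) (by simpa using hg i i)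
    (inv_norm_one hF (det_norm_one hF A))
  refine ⟨A * B, ?_, ?_, ?_⟩
  · simp only [Subgroup.coe_mul, Units.val_mul, Matrix.det_mul, hBdet]
    exact mul_inv_cancel₀ fun h0 => by simpa [h0] using det_norm_one hF A
  · rw [GU_mul_mulVec, hBfix e (herm_eq_zero_symm hF (ho i).1), hAe]
  · rw [GU_mul_mulVec, hBfix f (herm_eq_zero_symm hF (ho i).2), hAf]

/-- SU is transitive on nonzero isotropic vectors when `n ≥ 3`. -/
theorem exists_SU_isotropic (hF : Fintype.card F = q ^ 2) (hn : 3 ≤ n) {e e' : Fin n → F}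
    (he0 : e ≠ 0) (he : hermForm n F q e e = 0) (he0' : e' ≠ 0) (he' : hermForm n F q e' e' = 0) :
    ∃ A : GU n F q, A.1.1.det = 1 ∧ A.1.1 *ᵥ e = e' := by
  obtain ⟨f, h⟩ := exists_hyp hF he0 he
  obtain ⟨f', h'⟩ := exists_hyp hF he0' he'
  obtain ⟨A, h1, h2, -⟩ := exists_SU_hyp hF hn h h'
  exact ⟨A, h1, h2⟩

/-- Scaling a hyperbolic pair by `l` and `(l ^ q)⁻¹`. -/
theorem exists_GU_hyp_scale (hF : Fintype.card F = q ^ 2) {e f : Fin n → F} (h : Hyp q e f)
    {l : F} (hl : l ≠ 0) :
    ∃ A : GU n F q, A.1.1.det = l * (l ^ q)⁻¹ ∧ A.1.1 *ᵥ e = l • e ∧ A.1.1 *ᵥ f = (l ^ q)⁻¹ • f ∧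
      ∀ v, hermForm n F q v e = 0 → hermForm n F q v f = 0 → A.1.1 *ᵥ v = v := by
  set m := (l ^ q)⁻¹
  set M := rk1 q (l - 1) e f * rk1 q (m - 1) f e
  have hM : ∀ v, M *ᵥ v =
      v + ((l - 1) * hermForm n F q v f) • e + ((m - 1) * hermForm n F q v e) • f := by
    intro v
    rw [← Matrix.mulVec_mulVec, rk1_mulVec, rk1_mulVec, herm_add_left, herm_smul_left, h.2.1,
      mul_zero, add_zero]
    abel
  have hpres : ∀ u v, hermForm n F q (M *ᵥ u) (M *ᵥ v) = hermForm n F q u v := by
    intro u v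
    have hm : m * l ^ q = 1 := inv_mul_cancel₀ (pow_ne_zero q hl)
    have hm' : l * m ^ q = 1 := by
      rw [show m ^ q = ((l ^ q) ^ q)⁻¹ by simp [m, inv_pow], pow_q_q hF, mul_inv_cancel₀ hl]
    simp only [hM, herm_add_left, herm_add_right _ _ _ hF, herm_smul_left, herm_smul_right, h.1,
      h.2.1, h.2.2, h.symm' hF, mul_pow, sub_pow_q hF, one_pow, herm_conj v e hF,
      herm_conj v f hF, mul_zero, mul_one, add_zero, zero_add]
    linear_combination (hermForm n F q u f * hermForm n F q e v) * hm' +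
      (hermForm n F q u e * hermForm n F q f v) * hm
  refine ⟨mkGU hF M hpres, ?_, ?_, ?_, fun v hv1 hv2 => ?_⟩
  · simp only [mkGU_val, M, Matrix.det_mul, rk1_det, h.2.2, h.symm' hF]; ring
  · simp only [mkGU_val, hM, h.1, h.2.2, mul_one, mul_zero, zero_smul, add_zero]
    rw [sub_smul, one_smul, add_sub_cancel]
  · simp only [mkGU_val, hM, h.2.1, h.symm' hF, mul_one, mul_zero, zero_smul, add_zero]
    rw [sub_smul, one_smul, add_sub_cancel]
  · simp [mkGU_val, hM, hv1, hv2]

/-- Two hyperbolic pairs, mutually orthogonal, containing two given orthogonal isotropic vectors. -/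
theorem exists_double_hyp (hF : Fintype.card F = q ^ 2) {e s : Fin n → F}
    (hli : LinearIndependent F ![e, s]) (he : hermForm n F q e e = 0)
    (hs : hermForm n F q s s = 0) (hes : hermForm n F q e s = 0) :
    ∃ f t, Hyp q e f ∧ Hyp q s t ∧ hermForm n F q f s = 0 ∧ hermForm n F q t e = 0 ∧
      hermForm n F q t f = 0 := by
  obtain ⟨f, hf, hfo⟩ := exists_partner hF hli 0
    (fun i => by fin_cases i <;> simp [he, herm_eq_zero_symm hF hes])
  have hf' : Hyp q e f := by simpa using hf
  have hfs : hermForm n F q f s = 0 := by simpa using hfo 1 (by decide)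
  have hli3 : LinearIndependent F ![e, f, s] := by
    rw [Fintype.linearIndependent_iff]
    intro c hc
    simp only [Fin.sum_univ_three, Matrix.cons_val_zero, Matrix.cons_val_one,
      Matrix.cons_val_two, Matrix.head_cons, Matrix.tail_cons, Matrix.cons_val] at hc
    have h1 := congrArg (fun v => hermForm n F q v f) hc
    have h2 := congrArg (fun v => hermForm n F q v e) hc
    simp only [herm_add_left, herm_smul_left, herm_zero_left, he, hf'.2.1, hf'.2.2, hf'.symm' hF,
      herm_eq_zero_symm hF hfs, herm_eq_zero_symm hF hes, mul_zero, mul_one, zero_add,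
      add_zero] at h1 h2
    rw [h1, h2, zero_smul, zero_smul, zero_add, zero_add, smul_eq_zero] at hc
    have hs0 : s ≠ 0 := by simpa using hli.ne_zero 1
    intro i; fin_cases i
    · exact h1
    · exact h2
    · exact hc.resolve_right hs0
  obtain ⟨t, ht, hto⟩ := exists_partner hF hli3 2
    (fun i => by fin_cases i <;> simp [hes, hfs, hs])
  exact ⟨f, t, hf', by simpa using ht, hfs, by simpa using hto 0 (by decide),
    by simpa using hto 1 (by decide)⟩

/-- SU is transitive on ordered pairs of orthogonal isotropic lines. -/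
theorem exists_SU_isotropic_pair (hF : Fintype.card F = q ^ 2) {e s e' s' : Fin n → F}
    (hli : LinearIndependent F ![e, s]) (he : hermForm n F q e e = 0)
    (hs : hermForm n F q s s = 0) (hes : hermForm n F q e s = 0)
    (hli' : LinearIndependent F ![e', s']) (he' : hermForm n F q e' e' = 0)
    (hs' : hermForm n F q s' s' = 0) (hes' : hermForm n F q e' s' = 0) :
    ∃ (A : GU n F q) (a : F), a ≠ 0 ∧ A.1.1.det = 1 ∧ A.1.1 *ᵥ e = a • e' ∧ A.1.1 *ᵥ s = s' := by
  obtain ⟨f, t, hef, hst, hfs, hte, htf⟩ := exists_double_hyp hF hli he hs hes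
  obtain ⟨f', t', hef', hst', hfs', hte', htf'⟩ := exists_double_hyp hF hli' he' hs' hes'
  set b : Fin 4 → Fin n → F := ![e, f, s, t]
  set c : Fin 4 → Fin n → F := ![e', f', s', t']
  have hg : ∀ i j, hermForm n F q (b i) (b j) = hermForm n F q (c i) (c j) := by
    intro i j
    fin_cases i <;> fin_cases j <;>
      simp [b, c, hef.1, hef.2.1, hef.2.2, hef.symm' hF, hst.1, hst.2.1, hst.2.2, hst.symm' hF,
        hes, herm_eq_zero_symm hF hes, hfs, herm_eq_zero_symm hF hfs, hte,
        herm_eq_zero_symm hF hte, htf, herm_eq_zero_symm hF htf,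
        hef'.1, hef'.2.1, hef'.2.2, hef'.symm' hF, hst'.1, hst'.2.1, hst'.2.2, hst'.symm' hF,
        hes', herm_eq_zero_symm hF hes', hfs', herm_eq_zero_symm hF hfs', hte',
        herm_eq_zero_symm hF hte', htf', herm_eq_zero_symm hF htf']
  -- the span of four such vectors is nondegenerate of dimension four
  have key : ∀ (d : Fin 4 → Fin n → F), (∀ i j, hermForm n F q (b i) (b j) = hermForm n F q (d i) (d j)) →
      ∃ g : Fin (n - 4) → Fin n → F, Orthonormal' q g ∧
        (∀ i j, hermForm n F q (g i) (d j) = 0) ∧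
        LinearIndependent F (Sum.elim d g) ∧ 4 ≤ n := by
    intro d hd
    have hco : ∀ (x : Fin 4 → F) (j : Fin 4), hermForm n F q (∑ i, x i • d i) (d j) =
        ![x 1, x 0, x 3, x 2] j := by
      intro x j
      rw [herm_sum_left]
      simp only [herm_smul_left, ← hd, Fin.sum_univ_four]
      fin_cases j <;>
        simp [b, hef.1, hef.2.1, hef.2.2, hef.symm' hF, hst.1, hst.2.1, hst.2.2, hst.symm' hF,
          hes, herm_eq_zero_symm hF hes, hfs, herm_eq_zero_symm hF hfs, hte,
          herm_eq_zero_symm hF hte, htf, herm_eq_zero_symm hF htf]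
    have hnd : ∀ x : Fin 4 → F, (∀ j, hermForm n F q (∑ i, x i • d i) (d j) = 0) → x = 0 := by
      intro x hx
      ext i
      fin_cases i
      · simpa [hco] using hx 1
      · simpa [hco] using hx 0
      · simpa [hco] using hx 3
      · simpa [hco] using hx 2
    have hdli : LinearIndependent F d := Fintype.linearIndependent_iff.2 fun x hx i => by
      rw [hnd x fun j => by rw [hx, herm_zero_left]]; rfl
    set W := Submodule.span F (Set.range d)
    have hW : Nondeg q W := by
      intro u hu hv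
      obtain ⟨x, rfl⟩ := (Submodule.mem_span_range_iff_exists_fun F).1 hu
      simp [hnd x fun j => hv _ (Submodule.subset_span ⟨j, rfl⟩)]
    have hWk : finrank F W = 4 := by rw [finrank_span_eq_card hdli, Fintype.card_fin]
    have h4 : 4 ≤ n := by simpa using hdli.fintype_card_le_finrank
    have hk : finrank F (perp q W) = n - 4 := by have := finrank_perp hF W; omega
    obtain ⟨g, hg', hgW, -⟩ := exists_orthonormal_of_nondeg hF _ _ hk (nondeg_perp hF hW)
    refine ⟨g, hg', fun i j => hgW i _ (Submodule.subset_span ⟨j, rfl⟩), ?_, h4⟩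
    refine linearIndependent_sum.2 ⟨hdli, orthonormal_linearIndependent hg', ?_⟩
    simp only [Sum.elim_comp_inl, Sum.elim_comp_inr]
    exact Disjoint.mono le_rfl (Submodule.span_le.2 (Set.range_subset_iff.2 hgW))
      (isCompl_perp hF hW).disjoint
  obtain ⟨g, hgo, hgb, hbli, h4⟩ := key b fun _ _ => rfl
  obtain ⟨g', hgo', hgc, -, -⟩ := key c hg
  obtain ⟨A, hA⟩ := exists_GU_of_gram hF hbli (c := Sum.elim c g') (by simp; omega) (by
    rintro (i | i) (j | j)
    · simpa using hg i j
    · simp [herm_eq_zero_symm hF (hgb j i), herm_eq_zero_symm hF (hgc j i)]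
    · simp [hgb i j, hgc i j]
    · simp [hgo i j, hgo' i j])
  have hAe : A.1.1 *ᵥ e = e' := by simpa [b, c] using hA (Sum.inl 0)
  have hAs : A.1.1 *ᵥ s = s' := by simpa [b, c] using hA (Sum.inl 2)
  obtain ⟨l, hl, hl'⟩ := exists_div_conj hF (inv_norm_one hF (det_norm_one hF A))
  obtain ⟨B, hBdet, hBe, -, hBfix⟩ := exists_GU_hyp_scale hF hef hl
  refine ⟨A * B, l, hl, ?_, ?_, ?_⟩
  · simp only [Subgroup.coe_mul, Units.val_mul, Matrix.det_mul, hBdet]
    have hlq : l ^ q ≠ 0 := pow_ne_zero q hl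
    have hz0 : A.1.1.det ≠ 0 := fun h0 => by simpa [h0] using det_norm_one hF A
    rw [show l * (l ^ q)⁻¹ = A.1.1.det⁻¹ by
      rw [eq_comm, eq_mul_inv_iff_mul_eq₀ hlq]; exact hl'.symm]
    exact mul_inv_cancel₀ hz0
  · rw [GU_mul_mulVec, hBe, Matrix.mulVec_smul, hAe]
  · rw [GU_mul_mulVec, hBfix s (herm_eq_zero_symm hF hes) (herm_eq_zero_symm hF hfs), hAs]

end Cfsg.Agent.Lib.Unitary
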