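import Mathlib
import Cfsg.Agent.Lib.Unitary.Witt

/-!
Lib/Unitary/Order: numbers of vectors of norm zero and one, the embedding `GU n → GU (n + 1)`,
the orders of `GU n` and `SU n`.
-/

set_option autoImplicit false
set_option linter.unusedSectionVars false

namespace Cfsg.Agent.Lib.Unitary

open Matrix Module

variable {F : Type*} [Field F] [Fintype F] {q : ℕ} {n : ℕ}

/-! ### Counting vectors -/

/-- The number of vectors of norm zero. -/
noncomputable def countNull (F : Type*) [Field F] (q n : ℕ) : ℕ :=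
  Nat.card {v : Fin n → F // hermForm n F q v v = 0}

/-- The number of vectors of norm one. -/
noncomputable def countUnit (F : Type*) [Field F] (q n : ℕ) : ℕ :=
  Nat.card {v : Fin n → F // hermForm n F q v v = 1}

theorem herm_succ (u v : Fin (n + 1) → F) :
    hermForm (n + 1) F q u v = u 0 * v 0 ^ q + hermForm n F q (Fin.tail u) (Fin.tail v) := by
  simp [hermForm, Fin.sum_univ_succ, Fin.tail]

theorem card_norm_fibre [DecidableEq F] (hF : Fintype.card F = q ^ 2) {d : F} (hd : d ^ q = d) :
    Nat.card {a : F // a * a ^ q = d} = if d = 0 then 1 else q + 1 := by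
  split_ifs with h0
  · subst h0
    rw [Nat.card_eq_one_iff_unique]
    refine ⟨⟨fun a b => Subtype.ext ?_⟩, ⟨⟨0, by simp⟩⟩⟩
    have ha := a.2
    have hb := b.2
    simp only [mul_eq_zero, pow_eq_zero_iff', or_self_left] at ha hb
    rcases ha with ha | ⟨ha, -⟩ <;> rcases hb with hb | ⟨hb, -⟩ <;> rw [ha, hb]
  · obtain ⟨x, hx⟩ := norm_surj hF hd
    have hx0 : x ≠ 0 := fun h => h0 (by rw [← hx, h, zero_mul])
    rw [← card_norm_one hF]
    refine Nat.card_congr ((Equiv.mulLeft₀ x hx0).subtypeEquiv fun a => ?_).symm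
    show a ^ (q + 1) = 1 ↔ x * a * (x * a) ^ q = d
    rw [pow_succ', mul_pow]
    constructor
    · intro h; linear_combination (x * x ^ q) * h + hx
    · intro h
      apply mul_left_cancel₀ h0
      linear_combination h - (a * a ^ q) * hx

theorem countNull_succ (hF : Fintype.card F = q ^ 2) (n : ℕ) :
    countNull F q (n + 1) + q * countNull F q n = (q + 1) * (q ^ 2) ^ n := by
  classical
  have e : {v : Fin (n + 1) → F // hermForm (n + 1) F q v v = 0} ≃
      Σ w : Fin n → F, {a : F // a * a ^ q = -hermForm n F q w w} :=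
    { toFun := fun v => ⟨Fin.tail v.1, v.1 0, by
        have := v.2; rw [herm_succ] at this; linear_combination this⟩
      invFun := fun p => ⟨Fin.cons p.2.1 p.1, by
        rw [herm_succ, Fin.cons_zero, Fin.tail_cons]; linear_combination p.2.2⟩
      left_inv := fun v => Subtype.ext (Fin.cons_self_tail v.1)
      right_inv := fun ⟨w, a, ha⟩ => by ext <;> simp }
  rw [countNull, Nat.card_congr e, Nat.card_sigma]
  rw [Finset.sum_congr rfl fun w _ => card_norm_fibre hF
    (show (-hermForm n F q w w) ^ q = -hermForm n F q w w by rw [neg_pow_q hF, herm_self_fixed _ hF])]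
  simp only [neg_eq_zero]
  rw [Finset.sum_ite, Finset.sum_const, Finset.sum_const, smul_eq_mul, smul_eq_mul, countNull,
    Nat.card_eq_fintype_card, Fintype.card_subtype]
  have h2 : (Finset.univ.filter fun w : Fin n → F => hermForm n F q w w = 0).card +
      (Finset.univ.filter fun w : Fin n → F => ¬ hermForm n F q w w = 0).card = (q ^ 2) ^ n := by
    rw [Finset.card_filter_add_card_filter_not, Finset.card_univ, Fintype.card_fun,
      Fintype.card_fin, hF]
  rw [← h2]; ring

theorem countNull_zero (F : Type*) [Field F] (q : ℕ) : countNull F q 0 = 1 := by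
  simp [countNull, hermForm]

theorem q_mul_countNull (hF : Fintype.card F = q ^ 2) (n : ℕ) :
    (q : ℤ) * countNull F q n = (q : ℤ) ^ (2 * n) + (-1) ^ n * ((q : ℤ) ^ (n + 1) - (q : ℤ) ^ n) := by
  induction n with
  | zero => simp [countNull_zero]
  | succ n ih =>
    have h : (countNull F q (n + 1) : ℤ) + q * countNull F q n = (q + 1) * ((q : ℤ) ^ 2) ^ n := by
      exact_mod_cast countNull_succ hF n
    rw [← pow_mul] at h
    rw [show 2 * (n + 1) = 2 * n + 2 by ring, pow_add, pow_succ (-1 : ℤ)]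
    linear_combination (q : ℤ) * h - (q : ℤ) * ih

theorem countUnit_add (hF : Fintype.card F = q ^ 2) (n : ℕ) :
    (q - 1) * countUnit F q n + countNull F q n = (q ^ 2) ^ n := by
  classical
  have hsum : Nat.card (Fin n → F) = ∑ d : {x : F // x ^ q = x},
      Nat.card {v : Fin n → F // hermForm n F q v v = d.1} := by
    rw [← Nat.card_sigma]
    refine Nat.card_congr ⟨fun v => ⟨⟨_, herm_self_fixed v hF⟩, v, rfl⟩, fun p => p.2.1,
      fun v => rfl, fun p => Sigma.subtype_ext (Subtype.ext p.2.2) rfl⟩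
  have hfib : ∀ d : {x : F // x ^ q = x}, Nat.card {v : Fin n → F // hermForm n F q v v = d.1} =
      if d.1 = 0 then countNull F q n else countUnit F q n := by
    intro d
    split_ifs with h0
    · rw [h0]; rfl
    · obtain ⟨x, hx⟩ := norm_surj hF d.2
      have hx0 : x ≠ 0 := fun h => h0 (by rw [← hx, h, zero_mul])
      refine (Nat.card_congr ((LinearEquiv.smulOfUnit (M := Fin n → F) (Units.mk0 x hx0)).toEquiv.subtypeEquiv
        fun v => ?_)).symm
      show hermForm n F q v v = 1 ↔ hermForm n F q (x • v) (x • v) = d.1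
      rw [herm_smul_left, herm_smul_right, ← mul_assoc, hx]
      exact (mul_eq_left₀ h0).symm
  rw [Nat.card_eq_fintype_card, Fintype.card_fun, Fintype.card_fin, hF,
    Finset.sum_congr rfl fun d _ => hfib d, Finset.sum_ite, Finset.sum_const, Finset.sum_const,
    smul_eq_mul, smul_eq_mul] at hsum
  have h1 : (Finset.univ.filter fun d : {x : F // x ^ q = x} => d.1 = 0).card = 1 := by
    rw [Finset.card_eq_one]
    exact ⟨⟨0, zero_pow_q hF⟩, by ext d; simp [Subtype.ext_iff]⟩
  have h2 := Finset.card_filter_add_card_filter_not (s := (Finset.univ : Finset {x : F // x ^ q = x}))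
    (fun d => d.1 = 0)
  rw [h1, Finset.card_univ, ← Nat.card_eq_fintype_card, card_fixed hF] at h2
  rw [h1, show (Finset.univ.filter fun d : {x : F // x ^ q = x} => ¬ d.1 = 0).card = q - 1 by omega,
    one_mul] at hsum
  rw [hsum, add_comm]

theorem q_mul_countUnit (hF : Fintype.card F = q ^ 2) (n : ℕ) :
    (q : ℤ) * countUnit F q n = (q : ℤ) ^ n * ((q : ℤ) ^ n - (-1) ^ n) := by
  have h1q := one_lt_q hF
  have h : ((q : ℤ) - 1) * countUnit F q n + countNull F q n = ((q : ℤ) ^ 2) ^ n := by
    have := congrArg (fun k : ℕ => (k : ℤ)) (countUnit_add hF n)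
    push_cast [Nat.cast_sub h1q.le] at this
    exact this
  have hne : (q : ℤ) - 1 ≠ 0 := by omega
  apply mul_left_cancel₀ hne
  rw [← pow_mul] at h
  have := q_mul_countNull hF n
  rw [two_mul, pow_add] at this h
  linear_combination (q : ℤ) * h - this

theorem countUnit_succ (hF : Fintype.card F = q ^ 2) (m : ℕ) :
    countUnit F q (m + 1) = q ^ m * (if Even m then q ^ (m + 1) + 1 else q ^ (m + 1) - 1) := by
  have hq : (q : ℤ) ≠ 0 := by exact_mod_cast q_ne_zero hF
  have hpos : 1 ≤ q ^ (m + 1) := Nat.one_le_pow _ _ (by have := one_lt_q hF; omega)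
  have h := q_mul_countUnit hF (m + 1)
  apply Int.natCast_inj.1
  apply mul_left_cancel₀ hq
  rw [h]
  split_ifs with he
  · rw [pow_succ (-1 : ℤ), he.neg_one_pow]; push_cast; ring
  · rw [pow_succ (-1 : ℤ), (Nat.not_even_iff_odd.1 he).neg_one_pow]
    push_cast [Nat.cast_sub hpos]; ring

theorem countNull_succ_eq (hF : Fintype.card F = q ^ 2) (m : ℕ) :
    countNull F q (m + 1) =
      (if Even m then (q ^ (m + 1) + 1) * (q ^ m - 1) else (q ^ (m + 1) - 1) * (q ^ m + 1)) + 1 := by
  have h1q : 1 ≤ q := (one_lt_q hF).le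
  have hq : (q : ℤ) ≠ 0 := by exact_mod_cast q_ne_zero hF
  have h := q_mul_countNull hF (m + 1)
  apply Int.natCast_inj.1
  apply mul_left_cancel₀ hq
  rw [h]
  split_ifs with he
  · rw [pow_succ (-1 : ℤ), he.neg_one_pow]
    push_cast [Nat.cast_sub (Nat.one_le_pow m q h1q)]; ring
  · rw [pow_succ (-1 : ℤ), (Nat.not_even_iff_odd.1 he).neg_one_pow]
    push_cast [Nat.cast_sub (Nat.one_le_pow (m + 1) q h1q)]; ring

/-! ### The embedding fixing the first basis vector -/

/-- The block matrix `diag(1, A)`. -/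
def embMat (A : Matrix (Fin n) (Fin n) F) : Matrix (Fin (n + 1)) (Fin (n + 1)) F :=
  Matrix.of (Fin.cons (Fin.cons 1 0) fun i => Fin.cons 0 (A i))

theorem embMat_mulVec (A : Matrix (Fin n) (Fin n) F) (x : Fin (n + 1) → F) :
    embMat A *ᵥ x = Fin.cons (x 0) (A *ᵥ Fin.tail x) := by
  ext i
  refine Fin.cases ?_ (fun i => ?_) i <;>
    simp [embMat, Matrix.mulVec, dotProduct, Fin.sum_univ_succ, Fin.tail]

theorem embMat_det (A : Matrix (Fin n) (Fin n) F) : (embMat A).det = A.det := by
  rw [Matrix.det_succ_row_zero, Finset.sum_eq_single 0]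
  · simp [embMat]
    rfl
  · intro j _ hj
    obtain ⟨j, rfl⟩ := Fin.exists_succ_eq.2 hj
    simp [embMat]
  · simp

theorem embMat_mul (A B : Matrix (Fin n) (Fin n) F) : embMat (A * B) = embMat A * embMat B := by
  apply Matrix.toLin'.injective
  refine LinearMap.ext fun x => ?_
  rw [Matrix.toLin'_apply, Matrix.toLin'_apply, ← Matrix.mulVec_mulVec, embMat_mulVec,
    embMat_mulVec, embMat_mulVec, Fin.cons_zero, Fin.tail_cons, Matrix.mulVec_mulVec]

theorem embMat_preserving (A : GU n F q) (u v : Fin (n + 1) → F) :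
    hermForm (n + 1) F q (embMat A.1.1 *ᵥ u) (embMat A.1.1 *ᵥ v) = hermForm (n + 1) F q u v := by
  simp only [embMat_mulVec, herm_succ, Fin.cons_zero, Fin.tail_cons, GU_herm]

/-- The embedding `GU n → GU (n + 1)` fixing the first basis vector. -/
noncomputable def embGU (hF : Fintype.card F = q ^ 2) : GU n F q →* GU (n + 1) F q :=
  MonoidHom.mk' (fun A => mkGU hF (embMat A.1.1) (embMat_preserving A)) fun A B =>
    Subtype.ext (Units.ext (embMat_mul A.1.1 B.1.1))

@[simp] theorem embGU_val (hF : Fintype.card F = q ^ 2) (A : GU n F q) :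
    ((embGU hF A).1.1 : Matrix _ _ F) = embMat A.1.1 := rfl

theorem embGU_fix (hF : Fintype.card F = q ^ 2) (A : GU n F q) :
    (embGU hF A).1.1 *ᵥ (Pi.single 0 1 : Fin (n + 1) → F) = Pi.single 0 1 := by
  rw [embGU_val, embMat_mulVec]
  ext i
  refine Fin.cases ?_ (fun i => ?_) i
  · simp
  · rw [Fin.cons_succ, show Fin.tail (Pi.single 0 1 : Fin (n + 1) → F) = 0 from
      funext fun j => by simp [Fin.tail], Matrix.mulVec_zero]
    simp

theorem embGU_det (hF : Fintype.card F = q ^ 2) (A : GU n F q) :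
    (embGU hF A).1.1.det = A.1.1.det := embMat_det _

theorem embGU_injective (hF : Fintype.card F = q ^ 2) :
    Function.Injective (embGU (n := n) hF) := fun A B h => GU_ext fun v => by
  have := congrArg (fun X : GU (n + 1) F q => Fin.tail (X.1.1 *ᵥ Fin.cons (0 : F) v)) h
  simpa [embMat_mulVec] using this

/-- The stabiliser of the first basis vector is the image of `GU n`. -/
theorem exists_embGU (hF : Fintype.card F = q ^ 2) (A : GU (n + 1) F q)
    (hA : A.1.1 *ᵥ (Pi.single 0 1 : Fin (n + 1) → F) = Pi.single 0 1) :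
    ∃ B : GU n F q, embGU hF B = A := by
  set e : Fin (n + 1) → F := Pi.single 0 1
  have h0 : ∀ x, (A.1.1 *ᵥ x) 0 = x 0 := fun x => by
    have := GU_herm x e A
    rwa [hA, herm_single _ hF, herm_single _ hF] at this
  set C : Matrix (Fin n) (Fin n) F := A.1.1.submatrix Fin.succ Fin.succ
  have hC : ∀ v, A.1.1 *ᵥ Fin.cons 0 v = Fin.cons 0 (C *ᵥ v) := fun v => by
    ext i
    refine Fin.cases ?_ (fun i => ?_) i
    · rw [h0]; simp
    · simp [C, Matrix.mulVec, dotProduct, Fin.sum_univ_succ]
  refine ⟨mkGU hF C fun u v => ?_, GU_ext fun x => ?_⟩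
  · have := GU_herm (Fin.cons 0 u) (Fin.cons 0 v) A
    simpa [hC, herm_succ] using this
  · rw [embGU_val, mkGU_val, embMat_mulVec]
    have hx : x = x 0 • e + Fin.cons 0 (Fin.tail x) := by
      ext i; refine Fin.cases ?_ (fun i => ?_) i <;> simp [e, Fin.tail]
    conv_rhs => rw [hx, Matrix.mulVec_add, Matrix.mulVec_smul, hA, hC]
    ext i; refine Fin.cases ?_ (fun i => ?_) i <;> simp [e]

theorem card_GU_succ (hF : Fintype.card F = q ^ 2) (n : ℕ) :
    Nat.card (GU (n + 1) F q) = countUnit F q (n + 1) * Nat.card (GU n F q) := by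
  classical
  set e : Fin (n + 1) → F := Pi.single 0 1 with he
  have hee : hermForm (n + 1) F q e e = 1 := by rw [he, herm_std hF]; simp
  let S := {v : Fin (n + 1) → F // hermForm (n + 1) F q v v = 1}
  choose g hg using fun v : S => exists_GU_norm_one hF hee v.2
  have hbij : Function.Bijective fun p : S × GU n F q => g p.1 * embGU hF p.2 := by
    constructor
    · rintro ⟨v, B⟩ ⟨w, C⟩ h
      have hv := congrArg (fun X : GU (n + 1) F q => X.1.1 *ᵥ e) h
      simp only [GU_mul_mulVec] at hv
      rw [he, embGU_fix, embGU_fix, ← he, hg, hg] at hv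
      obtain rfl : v = w := Subtype.ext hv
      exact Prod.ext rfl (embGU_injective hF (mul_left_cancel (a := g v) h))
    · intro A
      let v : S := ⟨A.1.1 *ᵥ e, by rw [GU_herm]; exact hee⟩
      obtain ⟨B, hB⟩ := exists_embGU hF ((g v)⁻¹ * A) (by
        rw [← he, GU_mul_mulVec, show A.1.1 *ᵥ e = (g v).1.1 *ᵥ e from (hg v).symm, GU_inv_mulVec])
      exact ⟨(v, B), show g v * embGU hF B = A by rw [hB, mul_inv_cancel_left]⟩
  rw [← Nat.card_eq_of_bijective _ hbij, Nat.card_prod]
  rfl

theorem card_GU (hF : Fintype.card F = q ^ 2) (n : ℕ) :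
    Nat.card (GU n F q) = q ^ (n * (n - 1) / 2) *
      ∏ i ∈ Finset.range n, (if Even i then q ^ (i + 1) + 1 else q ^ (i + 1) - 1) := by
  rw [← Finset.sum_range_id, ← Finset.prod_pow_eq_pow_sum, ← Finset.prod_mul_distrib]
  induction n with
  | zero =>
    rw [Finset.prod_range_zero, Nat.card_eq_one_iff_unique]
    exact ⟨⟨fun a b => GU_ext fun v => Subsingleton.elim _ _⟩, ⟨1⟩⟩
  | succ n ih =>
    rw [card_GU_succ hF, ih, countUnit_succ hF, Finset.prod_range_succ, mul_comm]

theorem range_detGU (hF : Fintype.card F = q ^ 2) (hn : 1 ≤ n) :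
    (detGU n F q).range = (normHom F q).ker := by
  ext u
  simp only [MonoidHom.mem_range, MonoidHom.mem_ker, normHom, powMonoidHom_apply]
  constructor
  · rintro ⟨A, rfl⟩
    ext
    rw [Units.val_pow_eq_pow_val, detGU_val, pow_succ', det_norm_one hF A, Units.val_one]
  · intro h
    have h' : (u : F) * (u : F) ^ q = 1 := by
      rw [← pow_succ', ← Units.val_pow_eq_pow_val, h, Units.val_one]
    obtain ⟨A, hA⟩ := exists_GU_det hF hn h'
    exact ⟨A, Units.ext hA⟩

theorem card_SU_eq_ker (hF : Fintype.card F = q ^ 2) :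
    Nat.card (SU n F q) = Nat.card (detGU n F q).ker := by
  rw [← suToGU_range]
  exact Nat.card_congr (MonoidHom.ofInjective suToGU_injective).toEquiv

theorem card_SU (hF : Fintype.card F = q ^ 2) (hn : 1 ≤ n) :
    (q + 1) * Nat.card (SU n F q) = Nat.card (GU n F q) := by
  rw [card_SU_eq_ker hF, ← (card_normHom hF).1, ← range_detGU hF hn,
    Subgroup.card_eq_card_quotient_mul_card_subgroup (detGU n F q).ker,
    Nat.card_congr (QuotientGroup.quotientKerEquivRange (detGU n F q)).toEquiv]

end Cfsg.Agent.Lib.Unitary
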