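import Mathlib
import Cfsg.Prelude.Def_ClassicalGeometry
import Cfsg.Agent.Lib.Unitary.Order

/-!
Lib/Unitary/Transvection: unitary transvections and Eichler transformations in `GU`, their
composition and conjugation rules, every transvection is a commutator, eigenvector criterion for
scalars, the centre of `SU n` and the order of `PSU n`.
-/

set_option autoImplicit false
set_option linter.unusedSectionVars false

namespace Cfsg.Agent.Lib.Unitary

open Matrix Module
open scoped commutatorElement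

variable {F : Type*} [Field F] [Fintype F] {q : ℕ} {n : ℕ}

theorem unitaryTransvection_eq_rk1 (v : Fin n → F) (c : F) :
    unitaryTransvection n q v c = rk1 q c v v := rfl

theorem preserving_transvection_iff (hF : Fintype.card F = q ^ 2) {v : Fin n → F} (hv : v ≠ 0)
    (hv0 : hermForm n F q v v = 0) (c : F) :
    (∀ x y, hermForm n F q (rk1 q c v v *ᵥ x) (rk1 q c v v *ᵥ y) = hermForm n F q x y) ↔
      c + c ^ q = 0 := by
  have key : ∀ x y, hermForm n F q (rk1 q c v v *ᵥ x) (rk1 q c v v *ᵥ y) =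
      hermForm n F q x y + (c + c ^ q) * (hermForm n F q x v * hermForm n F q v y) := by
    intro x y
    simp only [rk1_mulVec, herm_add_left, herm_add_right _ _ _ hF, herm_smul_left, herm_smul_right,
      hv0, mul_zero, add_zero, mul_pow, herm_conj y v hF]
    ring
  constructor
  · intro h
    obtain ⟨f, hf⟩ := exists_hyp hF hv hv0
    have := h f f
    rw [key, hf.2.2, hf.symm' hF, mul_one, mul_one] at this
    linear_combination this
  · intro hc x y
    rw [key, hc, zero_mul, add_zero]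

/-- `A` is the transvection `x ↦ x + c h(x, v) v`. -/
def IsTvAt (v : Fin n → F) (c : F) (A : GU n F q) : Prop :=
  ∀ x, A.1.1 *ᵥ x = x + (c * hermForm n F q x v) • v

/-- `A` is a unitary transvection. -/
def IsTv (A : GU n F q) : Prop :=
  ∃ v c, hermForm n F q v v = 0 ∧ c + c ^ q = 0 ∧ IsTvAt v c A

theorem IsTvAt.unique {v : Fin n → F} {c : F} {A B : GU n F q} (hA : IsTvAt v c A)
    (hB : IsTvAt v c B) : A = B :=
  GU_ext fun x => by rw [hA, hB]

theorem exists_tv (hF : Fintype.card F = q ^ 2) {v : Fin n → F} (hv0 : hermForm n F q v v = 0)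
    {c : F} (hc : c + c ^ q = 0) : ∃ A : GU n F q, IsTvAt v c A ∧ A.1.1.det = 1 := by
  rcases eq_or_ne v 0 with rfl | hv
  · exact ⟨1, fun x => by simp, by simp⟩
  · refine ⟨mkGU hF _ ((preserving_transvection_iff hF hv hv0 c).2 hc), fun x => ?_, ?_⟩
    · rw [mkGU_val, rk1_mulVec]
    · rw [mkGU_val, rk1_det, hv0, mul_zero, add_zero]

theorem IsTvAt.matrix_eq {v : Fin n → F} {c : F} {A : GU n F q} (hA : IsTvAt v c A) :
    A.1.1 = unitaryTransvection n q v c := by
  rw [unitaryTransvection_eq_rk1]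
  apply Matrix.toLin'.injective
  exact LinearMap.ext fun x => by rw [Matrix.toLin'_apply, Matrix.toLin'_apply, hA x, rk1_mulVec]

theorem IsTvAt.conj {v : Fin n → F} {c : F} {A : GU n F q} (hA : IsTvAt v c A) (g : GU n F q) :
    IsTvAt (g.1.1 *ᵥ v) c (g * A * g⁻¹) := fun x => by
  have h := GU_herm (g⁻¹.1.1 *ᵥ x) v g
  rw [GU_mulVec_inv] at h
  rw [GU_mul_mulVec, GU_mul_mulVec, hA, Matrix.mulVec_add, Matrix.mulVec_smul, GU_mulVec_inv, h]

theorem IsTv.conj {A : GU n F q} (hA : IsTv A) (g : GU n F q) : IsTv (g * A * g⁻¹) := by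
  obtain ⟨v, c, hv, hc, h⟩ := hA
  exact ⟨g.1.1 *ᵥ v, c, by rw [GU_herm, hv], hc, h.conj g⟩

theorem IsTv.det (hF : Fintype.card F = q ^ 2) {A : GU n F q} (hA : IsTv A) : A.1.1.det = 1 := by
  obtain ⟨v, c, hv, hc, h⟩ := hA
  obtain ⟨B, hB, hdet⟩ := exists_tv hF hv hc
  rw [h.unique hB, hdet]

theorem IsTvAt.fix {v : Fin n → F} {c : F} {A : GU n F q} (hA : IsTvAt v c A) {x : Fin n → F}
    (hx : hermForm n F q x v = 0) : A.1.1 *ᵥ x = x := by
  rw [hA, hx, mul_zero, zero_smul, add_zero]

/-! ### Eichler transformations -/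

/-- `A` is the Eichler transformation `x ↦ x + h(x, e) (z + d e) - h(x, z) e`. -/
def IsEich (e z : Fin n → F) (d : F) (A : GU n F q) : Prop :=
  ∀ x, A.1.1 *ᵥ x = x + hermForm n F q x e • z +
    (d * hermForm n F q x e - hermForm n F q x z) • e

theorem IsEich.unique {e z : Fin n → F} {d : F} {A B : GU n F q} (hA : IsEich e z d A)
    (hB : IsEich e z d B) : A = B :=
  GU_ext fun x => by rw [hA, hB]

theorem exists_eich (hF : Fintype.card F = q ^ 2) {e z : Fin n → F}
    (he : hermForm n F q e e = 0) (hze : hermForm n F q z e = 0) {d : F}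
    (hd : d + d ^ q + hermForm n F q z z = 0) :
    ∃ A : GU n F q, IsEich e z d A ∧ A.1.1.det = 1 := by
  set M := rk1 q 1 (z + d • e) e * rk1 q (-1) e z
  have hM : ∀ x, M *ᵥ x = x + hermForm n F q x e • z +
      (d * hermForm n F q x e - hermForm n F q x z) • e := by
    intro x
    rw [← Matrix.mulVec_mulVec, rk1_mulVec, rk1_mulVec, herm_add_left, herm_smul_left, he,
      mul_zero, add_zero, one_mul, neg_one_mul]
    ext i; simp; ring
  have hpres : ∀ x y, hermForm n F q (M *ᵥ x) (M *ᵥ y) = hermForm n F q x y := by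
    intro x y
    simp only [hM, herm_add_left, herm_add_right _ _ _ hF, herm_smul_left, herm_smul_right, he,
      hze, herm_eq_zero_symm hF hze, mul_zero, add_zero, zero_add, mul_pow, sub_pow_q hF,
      herm_conj y e hF, herm_conj y z hF]
    linear_combination (hermForm n F q x e * hermForm n F q e y) * hd
  refine ⟨mkGU hF M hpres, fun x => by rw [mkGU_val, hM], ?_⟩
  rw [mkGU_val, Matrix.det_mul, rk1_det, rk1_det, herm_add_left, herm_smul_left, he, hze,
    herm_eq_zero_symm hF hze]
  ring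

theorem exists_eich_param (hF : Fintype.card F = q ^ 2) (z : Fin n → F) :
    ∃ d : F, d + d ^ q + hermForm n F q z z = 0 := by
  obtain ⟨d, hd⟩ := trace_surj hF (y := -hermForm n F q z z) (by
    rw [neg_pow_q hF, herm_self_fixed z hF])
  exact ⟨d, by rw [hd, neg_add_cancel]⟩

theorem IsEich.det (hF : Fintype.card F = q ^ 2) {e z : Fin n → F} {d : F} {A : GU n F q}
    (hA : IsEich e z d A) (he : hermForm n F q e e = 0) (hze : hermForm n F q z e = 0)
    (hd : d + d ^ q + hermForm n F q z z = 0) : A.1.1.det = 1 := by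
  obtain ⟨B, hB, hdet⟩ := exists_eich hF he hze hd
  rw [hA.unique hB, hdet]

theorem IsEich.mul (hF : Fintype.card F = q ^ 2) {e z z' : Fin n → F} {d d' : F} {A B : GU n F q}
    (hA : IsEich e z d A) (hB : IsEich e z' d' B) (he : hermForm n F q e e = 0)
    (hze : hermForm n F q z e = 0) (hze' : hermForm n F q z' e = 0) :
    IsEich e (z + z') (d + d' - hermForm n F q z' z) (A * B) := fun x => by
  rw [GU_mul_mulVec, hA (B.1.1 *ᵥ x), hB x]
  simp only [herm_add_left, herm_smul_left, he, hze', herm_eq_zero_symm hF hze,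
    herm_add_right _ _ _ hF, mul_zero, add_zero]
  ext i; simp; ring

theorem IsTvAt.eich (hF : Fintype.card F = q ^ 2) {e : Fin n → F} {c : F} {A : GU n F q}
    (hA : IsTvAt e c A) : IsEich e 0 c A := fun x => by
  rw [hA, herm_zero_right x hF, smul_zero, add_zero, sub_zero]

theorem IsEich.tv (hF : Fintype.card F = q ^ 2) {e : Fin n → F} {c : F} {A : GU n F q}
    (hA : IsEich e 0 c A) : IsTvAt e c A := fun x => by
  rw [hA, herm_zero_right x hF, smul_zero, add_zero, sub_zero]

theorem IsEich.conj {e z : Fin n → F} {d : F} {A : GU n F q} (hA : IsEich e z d A)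
    (g : GU n F q) : IsEich (g.1.1 *ᵥ e) (g.1.1 *ᵥ z) d (g * A * g⁻¹) := fun x => by
  have h := GU_herm (g⁻¹.1.1 *ᵥ x) e g
  have h' := GU_herm (g⁻¹.1.1 *ᵥ x) z g
  rw [GU_mulVec_inv] at h h'
  rw [GU_mul_mulVec, GU_mul_mulVec, hA, Matrix.mulVec_add, Matrix.mulVec_add, Matrix.mulVec_smul,
    Matrix.mulVec_smul, GU_mulVec_inv, h, h']

theorem IsEich.inv (hF : Fintype.card F = q ^ 2) {e z : Fin n → F} {d : F} {A : GU n F q}
    (hA : IsEich e z d A) (he : hermForm n F q e e = 0) (hze : hermForm n F q z e = 0)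
    (hd : d + d ^ q + hermForm n F q z z = 0) : IsEich e (-z) (d ^ q) A⁻¹ := by
  have hze' : hermForm n F q (-z) e = 0 := by rw [herm_neg_left, hze, neg_zero]
  have hd' : d ^ q + (d ^ q) ^ q + hermForm n F q (-z) (-z) = 0 := by
    rw [herm_neg_left, herm_neg_right _ _ hF, pow_q_q hF]; linear_combination hd
  obtain ⟨B, hB, -⟩ := exists_eich hF he hze' hd'
  have h := hA.mul hF hB he hze hze'
  rw [add_neg_cancel, herm_neg_left, sub_neg_eq_add, hd] at h
  rwa [show A⁻¹ = B from inv_eq_of_mul_eq_one_right (GU_ext fun x => by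
    rw [(h.tv hF) x, zero_mul, zero_smul, add_zero, GU_one_mulVec])]

/-- Scaling the axis of an Eichler transformation. -/
theorem IsEich.smul_axis (hF : Fintype.card F = q ^ 2) {e z : Fin n → F} {d μ : F} {A : GU n F q}
    (hA : IsEich (μ • e) z d A) (hμ : μ ^ q = μ) : IsEich e (μ • z) (μ * μ * d) A := fun x => by
  rw [hA]
  simp only [herm_smul_right, hμ]
  ext i; simp; ring

/-- Every transvection is a commutator of two Eichler transformations (`n ≥ 3`). -/
theorem tv_commutator (hF : Fintype.card F = q ^ 2) (hn : 3 ≤ n) {v : Fin n → F} {c : F}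
    {A : GU n F q} (hA : IsTvAt v c A) (hv : hermForm n F q v v = 0) (hc : c + c ^ q = 0) :
    ∃ g h : GU n F q, g.1.1.det = 1 ∧ h.1.1.det = 1 ∧ ⁅g, h⁆ = A := by
  rcases eq_or_ne v 0 with rfl | hv'
  · exact ⟨1, 1, by simp, by simp, by
      rw [commutatorElement_one_left]; exact GU_ext fun x => by simp [hA x]⟩
  obtain ⟨f, hf⟩ := exists_hyp hF hv' hv
  obtain ⟨g, hg, ho, -⟩ := hf.exists_complement hF
  set z := g ⟨0, by omega⟩
  have hzz : hermForm n F q z z = 1 := by
    have h := hg ⟨0, by omega⟩ ⟨0, by omega⟩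
    rwa [if_pos rfl] at h
  have hze : hermForm n F q z v = 0 := (ho _).1
  obtain ⟨θ, hθ0, hθ⟩ := exists_trace_zero_ne_zero hF
  obtain ⟨a, ha⟩ := trace_surj hF (y := c / θ) (by
    rw [div_pow, show c ^ q = -c by linear_combination hc,
      show θ ^ q = -θ by linear_combination hθ, neg_div_neg_eq])
  set x := -(θ * a)
  have hx : x ^ q - x = c := by
    simp only [x, neg_pow_q hF, mul_pow, show θ ^ q = -θ by linear_combination hθ]
    linear_combination (mul_div_cancel₀ c hθ0) + θ * ha
  obtain ⟨d, hd⟩ := exists_eich_param hF z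
  obtain ⟨d', hd'⟩ := exists_eich_param hF (x • z)
  have hze' : hermForm n F q (x • z) v = 0 := by rw [herm_smul_left, hze, mul_zero]
  obtain ⟨G, hG, hGdet⟩ := exists_eich hF hv hze hd
  obtain ⟨H, hH, hHdet⟩ := exists_eich hF hv hze' hd'
  have hzx : hermForm n F q z (x • z) = x ^ q := by rw [herm_smul_right, hzz, mul_one]
  have hxz : hermForm n F q (x • z) z = x := by rw [herm_smul_left, hzz, mul_one]
  have h1 := hG.mul hF hH hv hze hze'
  have h2 := hH.mul hF hG hv hze' hze
  have hsum : hermForm n F q (x • z + z) v = 0 := by rw [herm_add_left, hze, hze', add_zero]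
  have h3 := (hA.eich hF).mul hF h2 hv (herm_zero_left v) hsum
  rw [zero_add, herm_zero_right _ hF, sub_zero, hzx, add_comm (x • z) z] at h3
  rw [hxz] at h1
  rw [show c + (d' + d - x ^ q) = d + d' - x by rw [← hx]; ring] at h3
  refine ⟨G, H, hGdet, hHdet, ?_⟩
  rw [commutatorElement_def, h1.unique h3]
  group

/-! ### Scalars -/

theorem exists_three_norm_neg_one (hF : Fintype.card F = q ^ 2) :
    ∃ a b c : F, a * a ^ q = -1 ∧ b * b ^ q = -1 ∧ c * c ^ q = -1 ∧ a ≠ b ∧ a ≠ c ∧ b ≠ c := by
  classical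
  have h := card_norm_fibre hF (d := -1) (by rw [neg_pow_q hF, one_pow])
  rw [if_neg (by simp), Nat.card_eq_fintype_card] at h
  obtain ⟨a, b, c, h1, h2, h3⟩ := Fintype.two_lt_card_iff.1
    (show 2 < Fintype.card {x : F // x * x ^ q = -1} by have := one_lt_q hF; omega)
  exact ⟨a, b, c, a.2, b.2, c.2, fun h => h1 (Subtype.ext h), fun h => h2 (Subtype.ext h),
    fun h => h3 (Subtype.ext h)⟩

theorem herm_single_pair (hF : Fintype.card F = q ^ 2) {i j : Fin n} (hij : i ≠ j) {a : F}
    (ha : a * a ^ q = -1) :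
    hermForm n F q (Pi.single i (1 : F) + a • Pi.single j 1) (Pi.single i 1 + a • Pi.single j 1)
      = 0 := by
  simp only [herm_add_left, herm_add_right _ _ _ hF, herm_smul_left, herm_smul_right, herm_std hF,
    if_true, if_neg hij, if_neg hij.symm, mul_zero, add_zero, zero_add, mul_one]
  linear_combination ha

/-- A matrix with all isotropic vectors as eigenvectors is scalar. -/
theorem scalar_of_isotropic_eigen (hF : Fintype.card F = q ^ 2) (hn : 2 ≤ n)
    (M : Matrix (Fin n) (Fin n) F)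
    (h : ∀ v, hermForm n F q v v = 0 → ∃ a : F, M *ᵥ v = a • v) :
    ∃ l : F, ∀ x, M *ᵥ x = l • x := by
  obtain ⟨a, b, c, ha, hb, hc, hab, hac, hbc⟩ := exists_three_norm_neg_one hF
  have hpair : ∀ i j : Fin n, i ≠ j → ∃ l : F, M *ᵥ Pi.single i 1 = l • Pi.single i 1 ∧
      M *ᵥ Pi.single j 1 = l • Pi.single j 1 := by
    intro i j hij
    obtain ⟨la, hla⟩ := h _ (herm_single_pair hF hij ha)
    obtain ⟨lb, hlb⟩ := h _ (herm_single_pair hF hij hb)
    obtain ⟨lc, hlc⟩ := h _ (herm_single_pair hF hij hc)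
    simp only [Matrix.mulVec_add, Matrix.mulVec_smul] at hla hlb hlc
    have key : ∀ k, (b - c) * (la * ((Pi.single i (1 : F) + a • Pi.single j 1 : Fin n → F) k)) +
        (c - a) * (lb * ((Pi.single i (1 : F) + b • Pi.single j 1 : Fin n → F) k)) +
        (a - b) * (lc * ((Pi.single i (1 : F) + c • Pi.single j 1 : Fin n → F) k)) = 0 := by
      intro k
      have e1 := congrFun hla k
      have e2 := congrFun hlb k
      have e3 := congrFun hlc k
      simp only [Pi.add_apply, Pi.smul_apply, smul_eq_mul] at e1 e2 e3 ⊢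
      linear_combination -(b - c) * e1 - (c - a) * e2 - (a - b) * e3
    have ki := key i
    have kj := key j
    simp only [Pi.add_apply, Pi.smul_apply, Pi.single_eq_same, Pi.single_eq_of_ne hij,
      Pi.single_eq_of_ne hij.symm, smul_eq_mul, mul_zero, mul_one, add_zero, zero_add] at ki kj
    have hac' : la = lc := by
      have : (a - b) * (b - c) * (la - lc) = 0 := by linear_combination -b * ki + kj
      rcases mul_eq_zero.1 this with h' | h'
      · rcases mul_eq_zero.1 h' with h'' | h''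
        · exact absurd (sub_eq_zero.1 h'') hab
        · exact absurd (sub_eq_zero.1 h'') hbc
      · exact sub_eq_zero.1 h'
    have hbc' : lb = lc := by
      have : (c - a) * (lb - lc) = 0 := by rw [hac'] at ki; linear_combination ki
      rcases mul_eq_zero.1 this with h' | h'
      · exact absurd (sub_eq_zero.1 h').symm hac
      · exact sub_eq_zero.1 h'
    have hj : M *ᵥ Pi.single j 1 = la • Pi.single j 1 := by
      have : (a - b) • (M *ᵥ Pi.single j 1 - la • Pi.single j 1) = 0 := by
        rw [hac', hbc'.symm] at hla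
        rw [hac', hbc'.symm]
        ext k
        have e1 := congrFun hla k
        have e2 := congrFun hlb k
        simp only [Pi.add_apply, Pi.smul_apply, Pi.sub_apply, Pi.zero_apply, smul_eq_mul] at e1 e2 ⊢
        linear_combination e1 - e2
      exact sub_eq_zero.1 ((smul_eq_zero.1 this).resolve_left (sub_ne_zero.2 hab))
    refine ⟨la, ?_, hj⟩
    rw [hj, smul_add, smul_comm a la] at hla
    exact add_right_cancel hla
  obtain ⟨l, hl, -⟩ := hpair ⟨0, by omega⟩ ⟨1, by omega⟩ (by simp)
  refine ⟨l, fun x => ?_⟩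
  have hall : ∀ i, M *ᵥ Pi.single i 1 = l • Pi.single i 1 := fun i => by
    rcases eq_or_ne (⟨0, by omega⟩ : Fin n) i with hi | hi
    · rw [← hi]; exact hl
    · obtain ⟨m, hm1, hm2⟩ := hpair _ i hi
      have := congrFun (hl.symm.trans hm1) ⟨0, by omega⟩
      simp only [Pi.smul_apply, Pi.single_eq_same, smul_eq_mul, mul_one] at this
      rw [hm2, this]
  conv_lhs => rw [pi_eq_sum_univ' x]
  conv_rhs => rw [pi_eq_sum_univ' x]
  simp only [Matrix.mulVec_sum, Matrix.mulVec_smul, hall, Finset.smul_sum, smul_comm l]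

theorem mem_center_SU_iff (hF : Fintype.card F = q ^ 2) (hn : 2 ≤ n) (z : SU n F q) :
    z ∈ Subgroup.center (SU n F q) ↔ ∃ l : F, ∀ x, z.1.1 *ᵥ x = l • x := by
  constructor
  · intro hz
    refine scalar_of_isotropic_eigen hF hn _ fun v hv => ?_
    rcases eq_or_ne v 0 with rfl | hv0
    · exact ⟨0, by simp⟩
    obtain ⟨θ, hθ0, hθ⟩ := exists_trace_zero_ne_zero hF
    obtain ⟨A, hA, hdet⟩ := exists_tv hF hv hθ
    obtain ⟨T, hT⟩ : A ∈ (suToGU n F q).range := by
      rw [suToGU_range, MonoidHom.mem_ker]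
      exact Units.ext (by rw [detGU_val, hdet]; rfl)
    obtain ⟨f, hf⟩ := exists_hyp hF hv0 hv
    have h := congrArg (fun X => (suToGU n F q X).1.1 *ᵥ f) (Subgroup.mem_center_iff.1 hz T)
    simp only [map_mul, hT, GU_mul_mulVec, suToGU_val, hA _, hf.symm' hF, mul_one,
      Matrix.mulVec_add, Matrix.mulVec_smul] at h
    exact ⟨hermForm n F q (z.1.1 *ᵥ f) v, smul_right_injective _ hθ0 (by
      simp only [smul_smul]; exact (add_left_cancel h).symm)⟩
  · rintro ⟨l, hl⟩
    rw [Subgroup.mem_center_iff]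
    intro g
    apply suToGU_injective
    refine GU_ext fun x => ?_
    simp [← Matrix.mulVec_mulVec, hl, Matrix.mulVec_smul]

theorem card_center_SU (hF : Fintype.card F = q ^ 2) (hn : 2 ≤ n) :
    Nat.card (Subgroup.center (SU n F q)) = Nat.gcd n (q + 1) := by
  classical
  set K : Subgroup Fˣ := (powMonoidHom n).ker ⊓ (powMonoidHom (q + 1)).ker
  have i0 : Fin n := ⟨0, by omega⟩
  have hK : Nat.card K = Nat.gcd n (q + 1) := by
    have hKg : K = (powMonoidHom (Nat.gcd n (q + 1))).ker := by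
      ext u; simp [K, MonoidHom.mem_ker, powMonoidHom_apply]
    rw [hKg, IsCyclic.card_powMonoidHom_ker, Nat.card_eq_fintype_card, Fintype.card_units, hF,
      show q ^ 2 - 1 = (q + 1) * (q - 1) by rw [← Nat.sq_sub_sq, one_pow]]
    exact Nat.gcd_eq_right (dvd_mul_of_dvd_left (Nat.gcd_dvd_right _ _) _)
  rw [← hK]
  have hscal : ∀ (l : F) (x : Fin n → F),
      (Matrix.scalar (Fin n) l : Matrix (Fin n) (Fin n) F) *ᵥ x = l • x := fun l x => by
    ext i; simp [Matrix.scalar_apply, Matrix.mulVec_diagonal]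
  have hmem : ∀ u : K, ∃ z : SU n F q, z ∈ Subgroup.center (SU n F q) ∧
      ∀ x, z.1.1 *ᵥ x = (u.1 : F) • x := by
    rintro ⟨u, h1, h2⟩
    have h1' : (u : F) ^ n = 1 := by
      rw [← Units.val_pow_eq_pow_val]; exact congrArg Units.val (MonoidHom.mem_ker.1 h1)
    have h2' : (u : F) * (u : F) ^ q = 1 := by
      rw [← pow_succ', ← Units.val_pow_eq_pow_val]
      exact congrArg Units.val (MonoidHom.mem_ker.1 h2)
    refine ⟨⟨⟨Matrix.scalar (Fin n) (u : F), by simp [Matrix.scalar_apply, h1']⟩, ?_⟩, ?_, hscal _⟩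
    · intro x y
      show hermForm n F q (Matrix.scalar (Fin n) (u : F) *ᵥ x) (Matrix.scalar (Fin n) (u : F) *ᵥ y) = _
      rw [hscal, hscal, herm_smul_left, herm_smul_right, ← mul_assoc, h2', one_mul]
    · exact (mem_center_SU_iff hF hn _).2 ⟨u, hscal _⟩
  choose z hzc hz using hmem
  refine (Nat.card_eq_of_bijective (fun u => (⟨z u, hzc u⟩ : Subgroup.center (SU n F q))) ⟨?_, ?_⟩).symm
  · intro u v huv
    have h := congrFun (congrArg
      (fun X : Subgroup.center (SU n F q) => X.1.1.1 *ᵥ (Pi.single i0 1 : Fin n → F)) huv) i0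
    simp only [hz, Pi.smul_apply, Pi.single_eq_same, smul_eq_mul, mul_one] at h
    exact Subtype.ext (Units.ext h)
  · rintro ⟨w, hw⟩
    obtain ⟨l, hl⟩ := (mem_center_SU_iff hF hn w).1 hw
    have hMl : w.1.1 = Matrix.scalar (Fin n) l :=
      Matrix.toLin'.injective (LinearMap.ext fun x => by
        rw [Matrix.toLin'_apply, Matrix.toLin'_apply, hl, hscal])
    have h1 : l ^ n = 1 := by
      have := w.1.2
      rw [hMl] at this
      simpa [Matrix.scalar_apply] using this
    have h2 : l * l ^ q = 1 := by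
      have := (mem_SU_iff.1 w.2) (Pi.single i0 1) (Pi.single i0 1)
      simpa [hl, herm_smul_left, herm_smul_right, herm_std hF, mul_comm] using this
    have hl0 : l ≠ 0 := fun h => by simp [h] at h2
    refine ⟨⟨Units.mk0 l hl0, ?_⟩, Subtype.ext (Subtype.ext (Subtype.ext ?_))⟩
    · refine ⟨MonoidHom.mem_ker.2 (Units.ext ?_), MonoidHom.mem_ker.2 (Units.ext ?_)⟩
      · simpa using h1
      · simpa [pow_succ'] using h2
    · exact Matrix.toLin'.injective (LinearMap.ext fun x => by
        rw [Matrix.toLin'_apply, Matrix.toLin'_apply, hz, hl]; rfl)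

theorem card_PSU (hF : Fintype.card F = q ^ 2) (hn : 2 ≤ n) :
    Nat.gcd n (q + 1) * Nat.card (PSU n F q) = Nat.card (SU n F q) := by
  rw [← card_center_SU hF hn, mul_comm]
  exact (Subgroup.card_eq_card_quotient_mul_card_subgroup _).symm

end Cfsg.Agent.Lib.Unitary
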