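import Mathlib
import Cfsg.Agent.Lib.Unitary.Transvection

/-!
Lib/Unitary/Generation: the subgroup `TGroup` generated by unitary transvections contains every
determinant-one element of `GU n` for `n = 2`, and for `n ≥ 3` except `(n, q) = (3, 2)`;
`SU n` is then perfect.
-/

set_option autoImplicit false
set_option linter.unusedSectionVars false

namespace Cfsg.Agent.Lib.Unitary

open Matrix Module
open scoped commutatorElement

variable {F : Type*} [Field F] [Fintype F] {q : ℕ} {n : ℕ}

/-- The subgroup of `GU` generated by unitary transvections. -/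
def TGroup (F : Type*) [Field F] [Fintype F] (q n : ℕ) : Subgroup (GU n F q) :=
  Subgroup.closure {A | IsTv A}

theorem tv_mem_TGroup {v : Fin n → F} {c : F} {A : GU n F q} (hv : hermForm n F q v v = 0)
    (hc : c + c ^ q = 0) (hA : IsTvAt v c A) : A ∈ TGroup F q n :=
  Subgroup.subset_closure ⟨v, c, hv, hc, hA⟩

theorem TGroup_normal : (TGroup F q n).Normal := by
  refine ⟨fun A hA g => ?_⟩
  induction hA using Subgroup.closure_induction with
  | mem A h => exact Subgroup.subset_closure (h.conj g)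
  | one => rw [mul_one, mul_inv_cancel]; exact one_mem _
  | mul A B _ _ h1 h2 =>
    rw [show g * (A * B) * g⁻¹ = g * A * g⁻¹ * (g * B * g⁻¹) by group]; exact mul_mem h1 h2
  | inv A _ h =>
    rw [show g * A⁻¹ * g⁻¹ = (g * A * g⁻¹)⁻¹ by group]; exact inv_mem h

theorem det_of_mem_TGroup (hF : Fintype.card F = q ^ 2) {A : GU n F q} (hA : A ∈ TGroup F q n) :
    A.1.1.det = 1 := by
  have hle : TGroup F q n ≤ (detGU n F q).ker := by
    refine (Subgroup.closure_le _).2 fun B hB => MonoidHom.mem_ker.2 (Units.ext ?_)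
    rw [detGU_val, IsTv.det hF hB]; rfl
  simpa using congrArg Units.val (MonoidHom.mem_ker.1 (hle hA))

/-- Decomposition along a hyperbolic pair. -/
theorem Hyp.rest_perp (hF : Fintype.card F = q ^ 2) {e f : Fin n → F} (h : Hyp q e f)
    (x : Fin n → F) :
    hermForm n F q (x - hermForm n F q x f • e - hermForm n F q x e • f) e = 0 ∧
      hermForm n F q (x - hermForm n F q x f • e - hermForm n F q x e • f) f = 0 := by
  constructor <;>
    simp [herm_sub_left, herm_smul_left, h.1, h.2.1, h.2.2, h.symm' hF]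

theorem Hyp.ext (hF : Fintype.card F = q ^ 2) {e f : Fin n → F} (h : Hyp q e f) {A B : GU n F q}
    (he : A.1.1 *ᵥ e = B.1.1 *ᵥ e) (hf : A.1.1 *ᵥ f = B.1.1 *ᵥ f)
    (hrest : ∀ v, hermForm n F q v e = 0 → hermForm n F q v f = 0 →
      A.1.1 *ᵥ v = B.1.1 *ᵥ v) : A = B := by
  refine GU_ext fun x => ?_
  obtain ⟨h1, h2⟩ := h.rest_perp hF x
  have hr := hrest _ h1 h2
  simp only [Matrix.mulVec_sub, Matrix.mulVec_smul, he, hf] at hr
  exact sub_left_injective (sub_left_injective hr)

/-- A full orthonormal complement of a hyperbolic pair gives coordinates on the orthogonal. -/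
theorem Hyp.complement_expand (hF : Fintype.card F = q ^ 2) {e f : Fin n → F} (h : Hyp q e f)
    {g : Fin (n - 2) → Fin n → F} (hg : Orthonormal' q g)
    (ho : ∀ i, hermForm n F q (g i) e = 0 ∧ hermForm n F q (g i) f = 0)
    (hli : LinearIndependent F (Sum.elim ![e, f] g)) {z : Fin n → F}
    (hze : hermForm n F q z e = 0) (hzf : hermForm n F q z f = 0) :
    z = ∑ i, hermForm n F q z (g i) • g i := by
  have hn := h.two_le hF
  have hsp : Submodule.span F (Set.range (Sum.elim ![e, f] g)) = ⊤ :=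
    hli.span_eq_top_of_card_eq_finrank' (by simp; omega)
  rw [← sub_eq_zero]
  refine herm_nondeg_left hF fun v => ?_
  have hv : v ∈ Submodule.span F (Set.range (Sum.elim ![e, f] g)) := by rw [hsp]; trivial
  obtain ⟨c, rfl⟩ := (Submodule.mem_span_range_iff_exists_fun F).1 hv
  rw [herm_sum_right _ hF, Finset.sum_eq_zero]
  intro i _
  rcases i with i | i
  · fin_cases i <;>
      simp [herm_smul_right, herm_sub_left, herm_sum_left, herm_smul_left, hze, hzf, ho]
  · simp [herm_smul_right, herm_sub_left, herm_sum_left, herm_smul_left, hg _ _]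

/-- The rotation `e ↦ c f`, `f ↦ -c⁻¹ e`. -/
theorem exists_rot (hF : Fintype.card F = q ^ 2) {e f : Fin n → F} (h : Hyp q e f) {c : F}
    (hc0 : c ≠ 0) (hc : c + c ^ q = 0) :
    ∃ r ∈ TGroup F q n, r.1.1 *ᵥ e = c • f ∧ r.1.1 *ᵥ f = (-c⁻¹) • e ∧
      ∀ v, hermForm n F q v e = 0 → hermForm n F q v f = 0 → r.1.1 *ᵥ v = v := by
  have ha : -c⁻¹ + (-c⁻¹) ^ q = 0 := by
    rw [neg_pow_q hF, inv_pow, show c ^ q = -c by linear_combination hc, inv_neg]; ring
  obtain ⟨A, hA, -⟩ := exists_tv hF h.1 ha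
  obtain ⟨B, hB, -⟩ := exists_tv hF h.2.1 hc
  refine ⟨A * B * A, mul_mem (mul_mem (tv_mem_TGroup h.1 ha hA) (tv_mem_TGroup h.2.1 hc hB))
    (tv_mem_TGroup h.1 ha hA), ?_, ?_, fun v hv1 hv2 => ?_⟩
  · rw [GU_mul_mulVec, GU_mul_mulVec, hA.fix h.1, hB, h.2.2, mul_one, hA, herm_add_left,
      herm_smul_left, h.1, h.symm' hF, zero_add, mul_one,
      show -c⁻¹ * c = -1 by field_simp]
    simp
  · have h1 : A.1.1 *ᵥ f = f + (-c⁻¹) • e := by rw [hA, h.symm' hF, mul_one]
    have h2 : B.1.1 *ᵥ (f + (-c⁻¹) • e) = (-c⁻¹) • e := by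
      rw [hB, herm_add_left, herm_smul_left, h.2.1, h.2.2, zero_add, mul_one,
        show c * -c⁻¹ = -1 by field_simp]
      simp
    rw [GU_mul_mulVec, GU_mul_mulVec, h1, h2, Matrix.mulVec_smul, hA.fix h.1]
  · rw [GU_mul_mulVec, GU_mul_mulVec, hA.fix hv1, hB.fix hv2, hA.fix hv1]

theorem exists_scale_mem (hF : Fintype.card F = q ^ 2) {e f : Fin n → F} (h : Hyp q e f) {μ : F}
    (hμ0 : μ ≠ 0) (hμ : μ ^ q = μ) :
    ∃ r ∈ TGroup F q n, r.1.1 *ᵥ e = μ • e ∧ r.1.1 *ᵥ f = μ⁻¹ • f ∧
      ∀ v, hermForm n F q v e = 0 → hermForm n F q v f = 0 → r.1.1 *ᵥ v = v := by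
  obtain ⟨θ, hθ0, hθ⟩ := exists_trace_zero_ne_zero hF
  obtain ⟨r₂, hr₂, h2e, h2f, h2v⟩ := exists_rot hF h hθ0 hθ
  obtain ⟨r₁, hr₁, h1e, h1f, h1v⟩ := exists_rot hF h (c := -(μ * θ))
    (neg_ne_zero.2 (mul_ne_zero hμ0 hθ0))
    (by rw [neg_pow_q hF, mul_pow, hμ]; linear_combination -μ * hθ)
  refine ⟨r₂ * r₁, mul_mem hr₂ hr₁, ?_, ?_, fun v hv1 hv2 => ?_⟩
  · rw [GU_mul_mulVec, h1e, Matrix.mulVec_smul, h2f, smul_smul]
    congr 1; field_simp
  · rw [GU_mul_mulVec, h1f, Matrix.mulVec_smul, h2e, smul_smul]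
    congr 1; field_simp
  · rw [GU_mul_mulVec, h1v v hv1 hv2, h2v v hv1 hv2]

/-- A determinant-one isometry fixing the orthogonal of a hyperbolic pair is in `TGroup`. -/
theorem mem_TGroup_of_fix_perp (hF : Fintype.card F = q ^ 2) {e f : Fin n → F} (h : Hyp q e f)
    (g : GU n F q) (hdet : g.1.1.det = 1)
    (hfix : ∀ v, hermForm n F q v e = 0 → hermForm n F q v f = 0 → g.1.1 *ᵥ v = v) :
    g ∈ TGroup F q n := by
  have hspan : ∀ (g : GU n F q), (∀ v, hermForm n F q v e = 0 → hermForm n F q v f = 0 →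
      g.1.1 *ᵥ v = v) → ∀ x, hermForm n F q x e = 0 ∨ hermForm n F q x f = 0 →
      (x = e ∨ x = f) →
      g.1.1 *ᵥ x =
        hermForm n F q (g.1.1 *ᵥ x) f • e + hermForm n F q (g.1.1 *ᵥ x) e • f := by
    intro g hg x _ hx
    set y := g.1.1 *ᵥ x
    rw [← sub_eq_zero, ← sub_sub]
    refine herm_nondeg_left hF fun v => ?_
    obtain ⟨h1, h2⟩ := h.rest_perp hF y
    obtain ⟨k1, k2⟩ := h.rest_perp hF v
    have hxr : hermForm n F q x (v - hermForm n F q v f • e - hermForm n F q v e • f) = 0 := by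
      rcases hx with rfl | rfl
      · exact herm_eq_zero_symm hF k1
      · exact herm_eq_zero_symm hF k2
    have hr : hermForm n F q y (v - hermForm n F q v f • e - hermForm n F q v e • f) = 0 := by
      rw [← hg _ k1 k2, GU_herm]; exact hxr
    have hv : v = hermForm n F q v f • e + hermForm n F q v e • f +
        (v - hermForm n F q v f • e - hermForm n F q v e • f) := by abel
    conv_lhs => rw [hv]
    rw [herm_add_right _ _ _ hF, herm_add_right _ _ _ hF, herm_smul_right, herm_smul_right, h1, h2,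
      herm_sub_left, herm_sub_left, hr, herm_smul_left, herm_smul_left,
      herm_eq_zero_symm hF k1, herm_eq_zero_symm hF k2]
    ring
  -- first make `e` an eigenvector
  obtain ⟨t, htT, l, htl, htfix⟩ : ∃ t ∈ TGroup F q n, ∃ l : F, (t * g).1.1 *ᵥ e = l • e ∧
      ∀ v, hermForm n F q v e = 0 → hermForm n F q v f = 0 → (t * g).1.1 *ᵥ v = v := by
    have hge := hspan g hfix e (Or.inl h.1) (Or.inl rfl)
    have hiso := GU_herm e e g
    set α := hermForm n F q (g.1.1 *ᵥ e) f
    set β := hermForm n F q (g.1.1 *ᵥ e) e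
    rw [hge, h.1] at hiso
    simp only [herm_add_left, herm_add_right _ _ _ hF, herm_smul_left, herm_smul_right, h.1, h.2.1,
      h.2.2, h.symm' hF, mul_zero, mul_one, zero_add, add_zero] at hiso
    rcases eq_or_ne β 0 with hβ | hβ
    · refine ⟨1, one_mem _, α, ?_, fun v h1 h2 => by rw [one_mul, hfix v h1 h2]⟩
      rw [one_mul, hge, hβ, zero_smul, add_zero]
    · have hc : -α / β + (-α / β) ^ q = 0 := by
        rw [div_pow, neg_pow_q hF, div_add_div _ _ hβ (pow_ne_zero q hβ), div_eq_zero_iff]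
        left; linear_combination -hiso
      obtain ⟨A, hA, -⟩ := exists_tv hF h.1 hc
      obtain ⟨θ, hθ0, hθ⟩ := exists_trace_zero_ne_zero hF
      obtain ⟨r, hr, -, hrf, hrv⟩ := exists_rot hF h hθ0 hθ
      refine ⟨r * A, mul_mem hr (tv_mem_TGroup h.1 hc hA), β * -θ⁻¹, ?_, fun v h1 h2 => ?_⟩
      · rw [GU_mul_mulVec, GU_mul_mulVec, hge, hA, herm_add_left, herm_smul_left, herm_smul_left,
          h.1, h.symm' hF, mul_zero, zero_add, mul_one, div_mul_cancel₀ _ hβ]
        rw [show α • e + β • f + (-α) • e = β • f by rw [neg_smul]; abel, Matrix.mulVec_smul, hrf,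
          smul_smul]
      · rw [GU_mul_mulVec, GU_mul_mulVec, hfix v h1 h2, hA.fix h1, hrv v h1 h2]
  have hgf := hspan (t * g) htfix f (Or.inr h.2.1) (Or.inr rfl)
  have hl1 := GU_herm e f (t * g)
  have hiso := GU_herm f f (t * g)
  set μ := hermForm n F q ((t * g).1.1 *ᵥ f) f
  set ν := hermForm n F q ((t * g).1.1 *ᵥ f) e
  rw [htl, hgf, h.2.2] at hl1
  rw [hgf, h.2.1] at hiso
  simp only [herm_add_left, herm_add_right _ _ _ hF, herm_smul_left, herm_smul_right, h.1, h.2.1,
    h.2.2, h.symm' hF, mul_zero, mul_one, zero_add, add_zero] at hl1 hiso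
  have hν : ν ≠ 0 := by
    intro h0
    rw [h0, zero_pow_q hF, zero_mul] at hl1
    exact zero_ne_one hl1
  have hc : -μ / ν + (-μ / ν) ^ q = 0 := by
    rw [div_pow, neg_pow_q hF, div_add_div _ _ hν (pow_ne_zero q hν), div_eq_zero_iff]
    left; linear_combination -hiso
  obtain ⟨A, hA, hAdet⟩ := exists_tv hF h.1 hc
  set g₂ := A * (t * g)
  have h2e : g₂.1.1 *ᵥ e = l • e := by rw [GU_mul_mulVec, htl, Matrix.mulVec_smul, hA.fix h.1]
  have h2f : g₂.1.1 *ᵥ f = ν • f := by
    rw [GU_mul_mulVec, hgf, hA, herm_add_left, herm_smul_left, herm_smul_left, h.1, h.symm' hF,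
      mul_zero, zero_add, mul_one, div_mul_cancel₀ _ hν, neg_smul]
    abel
  have hl0 : l ≠ 0 := by
    intro h0
    rw [h0, mul_zero] at hl1
    exact zero_ne_one hl1
  have hνl : ν = (l ^ q)⁻¹ := by
    refine eq_inv_of_mul_eq_one_left ?_
    rw [show ν = (ν ^ q) ^ q by rw [pow_q_q hF], ← mul_pow, hl1, one_pow]
  obtain ⟨S, hSdet, hSe, hSf, hSv⟩ := exists_GU_hyp_scale hF h hl0
  have hg2S : g₂ = S := h.ext hF (by rw [h2e, hSe]) (by rw [h2f, hSf, hνl]) fun v h1 h2 => by
    rw [GU_mul_mulVec, htfix v h1 h2, hA.fix h1, hSv v h1 h2]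
  have hlq : l ^ q = l := by
    have hd : g₂.1.1.det = 1 := by
      simp only [g₂, Subgroup.coe_mul, Units.val_mul, Matrix.det_mul, hAdet,
        det_of_mem_TGroup hF htT, hdet, one_mul]
    rw [hg2S, hSdet, ← div_eq_mul_inv, div_eq_one_iff_eq (pow_ne_zero q hl0)] at hd
    exact hd.symm
  obtain ⟨R, hR, hRe, hRf, hRv⟩ := exists_scale_mem hF h hl0 hlq
  have hg2 : g₂ = R := hg2S.trans <| h.ext hF (by rw [hSe, hRe]) (by rw [hSf, hRf, hlq])
    fun v h1 h2 => by rw [hSv v h1 h2, hRv v h1 h2]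
  rw [show g = t⁻¹ * A⁻¹ * g₂ by simp only [g₂]; group, hg2]
  exact mul_mem (mul_mem (inv_mem htT) (inv_mem (tv_mem_TGroup h.1 hc hA))) hR

/-! ### Transitivity on isotropic vectors -/

theorem exists_mem_TGroup_move (hF : Fintype.card F = q ^ 2) {u v : Fin n → F}
    (hu : hermForm n F q u u = 0) (hv : hermForm n F q v v = 0)
    (hs0 : hermForm n F q u v ≠ 0) (hs : hermForm n F q u v + hermForm n F q u v ^ q = 0) :
    ∃ t ∈ TGroup F q n, t.1.1 *ᵥ u = v := by
  set s := hermForm n F q u v
  have hc : s⁻¹ + s⁻¹ ^ q = 0 := by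
    rw [inv_pow, show s ^ q = -s by linear_combination hs, inv_neg, add_neg_cancel]
  obtain ⟨A, hA, -⟩ := exists_tv hF hv hc
  obtain ⟨B, hB, -⟩ := exists_tv hF hu hc
  refine ⟨B * A, mul_mem (tv_mem_TGroup hu hc hB) (tv_mem_TGroup hv hc hA), ?_⟩
  rw [GU_mul_mulVec, hA, inv_mul_cancel₀ hs0, one_smul, hB, herm_add_left, hu, zero_add,
    ← herm_conj u v hF, show s ^ q = -s by linear_combination hs, mul_neg, inv_mul_cancel₀ hs0,
    neg_smul, one_smul]
  abel

theorem exists_mem_TGroup_move_nonorth (hF : Fintype.card F = q ^ 2) (hn : 3 ≤ n)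
    {u w : Fin n → F} (hu : hermForm n F q u u = 0) (hw : hermForm n F q w w = 0)
    (hs0 : hermForm n F q u w ≠ 0) : ∃ t ∈ TGroup F q n, t.1.1 *ᵥ u = w := by
  set s := hermForm n F q u w
  have hsq : s ^ q ≠ 0 := pow_ne_zero q hs0
  set f := (s ^ q)⁻¹ • w
  have hf : Hyp q u f := by
    refine ⟨hu, ?_, ?_⟩
    · rw [herm_smul_left, herm_smul_right, hw, mul_zero, mul_zero]
    · rw [herm_smul_right, inv_pow, pow_q_q hF, inv_mul_cancel₀ hs0]
  have hwf : w = s ^ q • f := by rw [smul_smul, mul_inv_cancel₀ hsq, one_smul]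
  obtain ⟨g, hg, ho, -⟩ := hf.exists_complement hF
  set z := g ⟨0, by omega⟩
  have hzz : hermForm n F q z z = 1 := by
    have h := hg ⟨0, by omega⟩ ⟨0, by omega⟩
    rwa [if_pos rfl] at h
  obtain ⟨θ, hθ0, hθ⟩ := exists_trace_zero_ne_zero hF
  have hθq : θ ^ q = -θ := by linear_combination hθ
  obtain ⟨γ, hγ⟩ := norm_surj hF (y := -(θ / s * θ + (θ / s * θ) ^ q))
    (by rw [neg_pow_q hF, add_pow_q hF, pow_q_q hF]; ring)
  set v := (θ / s) • u + (-θ) • f + γ • z
  have h1 : hermForm n F q u v = θ := by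
    simp only [v, herm_add_right _ _ _ hF, herm_smul_right, hu, hf.2.2,
      herm_eq_zero_symm hF (ho _).1, z, mul_zero, zero_add, add_zero, mul_one, neg_pow_q hF, hθq,
      neg_neg]
  have h2 : hermForm n F q v w = θ := by
    rw [hwf]
    simp only [v, herm_smul_right, herm_add_left, herm_smul_left, hf.2.1, hf.2.2, (ho _).2, z,
      mul_zero, add_zero, mul_one, pow_q_q hF]
    rw [mul_comm, div_mul_cancel₀ θ hs0]
  have h3 : hermForm n F q v v = 0 := by
    have hzu : hermForm n F q z u = 0 := (ho _).1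
    have hzf : hermForm n F q z f = 0 := (ho _).2
    simp only [v, herm_add_left, herm_add_right _ _ _ hF, herm_smul_left, herm_smul_right, hu,
      hf.2.1, hf.2.2, hf.symm' hF, hzu, hzf, hzz, herm_eq_zero_symm hF hzu,
      herm_eq_zero_symm hF hzf, mul_zero, add_zero, zero_add, mul_one, neg_pow_q hF, hθq, neg_neg]
    rw [mul_pow, hθq] at hγ
    linear_combination hγ
  obtain ⟨t, ht, htu⟩ := exists_mem_TGroup_move hF hu h3 (by rw [h1]; exact hθ0) (by rw [h1]; exact hθ)
  obtain ⟨t', ht', htv⟩ := exists_mem_TGroup_move hF h3 hw (by rw [h2]; exact hθ0)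
    (by rw [h2]; exact hθ)
  exact ⟨t' * t, mul_mem ht' ht, by rw [GU_mul_mulVec, htu, htv]⟩

/-- An isotropic vector not orthogonal to either of two nonzero isotropic vectors. -/
theorem exists_common_nonorth (hF : Fintype.card F = q ^ 2) {u w : Fin n → F}
    (hu0 : u ≠ 0) (hu : hermForm n F q u u = 0) (hw0 : w ≠ 0)
    (huw : hermForm n F q u w = 0) :
    ∃ x, hermForm n F q x x = 0 ∧ hermForm n F q u x ≠ 0 ∧ hermForm n F q w x ≠ 0 := by
  by_cases hdep : LinearIndependent F ![u, w]
  · obtain ⟨x, hx⟩ := pairing_surjective hF hdep ![1, 1]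
    have hux : hermForm n F q u x = 1 := by
      rw [← herm_conj x u hF, show hermForm n F q x u = 1 by simpa using hx 0, one_pow]
    have hwx : hermForm n F q w x = 1 := by
      rw [← herm_conj x w hF, show hermForm n F q x w = 1 by simpa using hx 1, one_pow]
    obtain ⟨a, ha⟩ := exists_isotropic_shift hF hu (x := x) (by rw [hux]; exact one_ne_zero)
    refine ⟨x + a • u, ha, ?_, ?_⟩
    · rw [herm_add_right _ _ _ hF, herm_smul_right, hu, mul_zero, add_zero, hux]; exact one_ne_zero
    · rw [herm_add_right _ _ _ hF, herm_smul_right, herm_eq_zero_symm hF huw, mul_zero, add_zero,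
        hwx]
      exact one_ne_zero
  · obtain ⟨f, hf⟩ := exists_hyp hF hu0 hu
    refine ⟨f, hf.2.1, by rw [hf.2.2]; exact one_ne_zero, fun h0 => hdep ?_⟩
    rw [LinearIndependent.pair_iff]
    intro a b hab
    have h := congrArg (fun v => hermForm n F q v f) hab
    simp only [herm_add_left, herm_smul_left, herm_zero_left, hf.2.2, h0, mul_zero, mul_one,
      add_zero] at h
    refine ⟨h, ?_⟩
    rw [h, zero_smul, zero_add] at hab
    exact (smul_eq_zero.1 hab).resolve_right hw0

theorem exists_mem_TGroup_isotropic (hF : Fintype.card F = q ^ 2) (hn : 3 ≤ n)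
    {u w : Fin n → F} (hu0 : u ≠ 0) (hu : hermForm n F q u u = 0) (hw0 : w ≠ 0)
    (hw : hermForm n F q w w = 0) : ∃ t ∈ TGroup F q n, t.1.1 *ᵥ u = w := by
  by_cases h : hermForm n F q u w = 0
  · obtain ⟨x, hx, hux, hwx⟩ := exists_common_nonorth hF hu0 hu hw0 h
    obtain ⟨t, ht, htu⟩ := exists_mem_TGroup_move_nonorth hF hn hu hx hux
    obtain ⟨t', ht', htx⟩ := exists_mem_TGroup_move_nonorth hF hn hx hw
      (fun h0 => hwx (herm_eq_zero_symm hF h0))
    exact ⟨t' * t, mul_mem ht' ht, by rw [GU_mul_mulVec, htu, htx]⟩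
  · exact exists_mem_TGroup_move_nonorth hF hn hu hw h

/-! ### Eichler transformations are products of transvections -/

/-- All Eichler transformations with axis `e` and vector `z` lie in `TGroup`. -/
def EichIn (q : ℕ) (e z : Fin n → F) : Prop :=
  hermForm n F q z e = 0 ∧ ∀ d, d + d ^ q + hermForm n F q z z = 0 →
    ∀ A : GU n F q, IsEich e z d A → A ∈ TGroup F q n

theorem eichIn_of_one (hF : Fintype.card F = q ^ 2) {e z : Fin n → F}
    (he : hermForm n F q e e = 0) (hze : hermForm n F q z e = 0) {d₀ : F} {A₀ : GU n F q}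
    (hd₀ : d₀ + d₀ ^ q + hermForm n F q z z = 0) (hA₀ : IsEich e z d₀ A₀)
    (hmem : A₀ ∈ TGroup F q n) : EichIn q e z := by
  refine ⟨hze, fun d hd A hA => ?_⟩
  have hc : (d - d₀) + (d - d₀) ^ q = 0 := by
    rw [sub_pow_q hF]; linear_combination hd - hd₀
  obtain ⟨B, hB, -⟩ := exists_tv hF he hc
  have h := (hB.eich hF).mul hF hA₀ he (herm_zero_left e) hze
  rw [zero_add, sub_add_cancel, herm_zero_right _ hF, sub_zero] at h
  rw [hA.unique h]
  exact mul_mem (tv_mem_TGroup he hc hB) hmem

theorem EichIn.add (hF : Fintype.card F = q ^ 2) {e z z' : Fin n → F}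
    (he : hermForm n F q e e = 0) (h : EichIn q e z) (h' : EichIn q e z') :
    EichIn q e (z + z') := by
  obtain ⟨d, hd⟩ := exists_eich_param hF z
  obtain ⟨d', hd'⟩ := exists_eich_param hF z'
  obtain ⟨A, hA, -⟩ := exists_eich hF he h.1 hd
  obtain ⟨B, hB, -⟩ := exists_eich hF he h'.1 hd'
  refine eichIn_of_one hF he (by rw [herm_add_left, h.1, h'.1, add_zero]) ?_
    (hA.mul hF hB he h.1 h'.1) (mul_mem (h.2 d hd A hA) (h'.2 d' hd' B hB))
  simp only [sub_pow_q hF, add_pow_q hF, herm_add_left, herm_add_right _ _ _ hF, herm_conj z' z hF]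
  linear_combination hd + hd'

theorem eichIn_zero (hF : Fintype.card F = q ^ 2) {e : Fin n → F}
    (he : hermForm n F q e e = 0) : EichIn q e 0 := by
  refine ⟨herm_zero_left e, fun d hd A hA => tv_mem_TGroup he ?_ (hA.tv hF)⟩
  rwa [herm_zero_left, add_zero] at hd

theorem eichIn_commutator (hF : Fintype.card F = q ^ 2) {e z z' : Fin n → F}
    (he : hermForm n F q e e = 0) (hze : hermForm n F q z e = 0)
    (hze' : hermForm n F q z' e = 0) {t : GU n F q} (ht : t ∈ TGroup F q n) {μ : F}
    (hte : t.1.1 *ᵥ e = μ • e) (hμ : μ ^ q = μ) (hz' : μ • (t.1.1 *ᵥ z) - z = z') :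
    EichIn q e z' := by
  obtain ⟨d, hd⟩ := exists_eich_param hF z
  obtain ⟨A, hA, -⟩ := exists_eich hF he hze hd
  have h1 := hA.conj t
  rw [hte] at h1
  have h2 := h1.smul_axis hF hμ
  have hze'' : hermForm n F q (-z) e = 0 := by rw [herm_neg_left, hze, neg_zero]
  have hnew : hermForm n F q (μ • (t.1.1 *ᵥ z)) e = 0 := by
    have h3 := GU_herm z e t
    rw [hte, herm_smul_right, hμ, hze] at h3
    rw [herm_smul_left]; exact h3
  have hd2 : μ * μ * d + (μ * μ * d) ^ q + hermForm n F q (μ • (t.1.1 *ᵥ z)) (μ • (t.1.1 *ᵥ z)) = 0 := by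
    rw [herm_smul_left, herm_smul_right, GU_herm, hμ, mul_pow, mul_pow, hμ]
    linear_combination μ * μ * hd
  have h4 := h2.mul hF (hA.inv hF he hze hd) he hnew hze''
  rw [← sub_eq_add_neg, hz'] at h4
  refine eichIn_of_one hF he hze' ?_ h4 ?_
  · rw [← hz']
    simp only [sub_pow_q hF, add_pow_q hF, herm_sub_left, herm_sub_right _ _ _ hF, herm_neg_left,
      pow_q_q hF, neg_pow_q hF, herm_conj z (μ • (t.1.1 *ᵥ z)) hF]
    linear_combination hd + hd2
  · rw [show t * A * t⁻¹ * A⁻¹ = t * (A * t⁻¹ * A⁻¹) by group]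
    exact mul_mem ht (TGroup_normal.conj_mem _ (inv_mem ht) A)

theorem eich_mem_TGroup (hF : Fintype.card F = q ^ 2) (hn : 3 ≤ n) (h32 : ¬ (n = 3 ∧ q = 2))
    {e f z : Fin n → F} (h : Hyp q e f) (hze : hermForm n F q z e = 0)
    (hzf : hermForm n F q z f = 0) : EichIn q e z := by
  have h1q := one_lt_q hF
  by_cases hn4 : 4 ≤ n
  · obtain ⟨g, hg, ho, hli⟩ := h.exists_complement hF
    -- multiples of isotropic vectors in the orthogonal
    have hiso : ∀ (v : Fin n → F) (x : F), hermForm n F q v v = 0 → hermForm n F q v e = 0 →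
        hermForm n F q v f = 0 → EichIn q e (x • v) := by
      intro v x hv hve hvf
      rcases eq_or_ne v 0 with rfl | hv0
      · rw [smul_zero]; exact eichIn_zero hF h.1
      obtain ⟨i, hi⟩ : ∃ i, hermForm n F q (g i) v ≠ 0 := by
        by_contra hall
        push Not at hall
        refine hv0 ?_
        rw [h.complement_expand hF hg ho hli hve hvf]
        exact Finset.sum_eq_zero fun i _ => by rw [herm_eq_zero_symm hF (hall i), zero_smul]
      obtain ⟨θ, hθ0, hθ⟩ := exists_trace_zero_ne_zero hF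
      obtain ⟨A, hA, -⟩ := exists_tv hF hv hθ
      refine eichIn_commutator hF h.1 (z := (x / (θ * hermForm n F q (g i) v)) • g i)
        (by rw [herm_smul_left, (ho i).1, mul_zero]) (by rw [herm_smul_left, hve, mul_zero])
        (tv_mem_TGroup hv hθ hA) (μ := 1) ?_ (one_pow q) ?_
      · rw [hA.fix (herm_eq_zero_symm hF hve), one_smul]
      · rw [one_smul, hA, herm_smul_left, add_sub_cancel_left]
        congr 1
        field_simp
    obtain ⟨a, b, -, ha, hb, -, hab, -, -⟩ := exists_three_norm_neg_one hF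
    have hgi : ∀ (i : Fin (n - 2)) (x : F), EichIn q e (x • g i) := by
      intro i x
      haveI : Nontrivial (Fin (n - 2)) := Fin.nontrivial_iff_two_le.2 (by omega)
      obtain ⟨j, hj⟩ := exists_ne i
      have hab' : a - b ≠ 0 := sub_ne_zero.2 hab
      have hv : ∀ c : F, c * c ^ q = -1 →
          hermForm n F q (g i + c • g j) (g i + c • g j) = 0 ∧
          hermForm n F q (g i + c • g j) e = 0 ∧ hermForm n F q (g i + c • g j) f = 0 := by
        intro c hc
        refine ⟨?_, ?_, ?_⟩
        · simp only [herm_add_left, herm_add_right _ _ _ hF, herm_smul_left, herm_smul_right,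
            hg _ _, if_true, if_neg hj, if_neg hj.symm, mul_zero, mul_one, add_zero, zero_add]
          linear_combination hc
        · simp [herm_add_left, herm_smul_left, (ho _).1]
        · simp [herm_add_left, herm_smul_left, (ho _).2]
      have h1 := hiso (g i + a • g j) (x * (-b) / (a - b)) (hv a ha).1 (hv a ha).2.1 (hv a ha).2.2
      have h2 := hiso (g i + b • g j) (x * a / (a - b)) (hv b hb).1 (hv b hb).2.1 (hv b hb).2.2
      convert h1.add hF h.1 h2 using 1
      ext k
      simp only [Pi.add_apply, Pi.smul_apply, smul_eq_mul]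
      field_simp
      ring
    rw [h.complement_expand hF hg ho hli hze hzf]
    refine Finset.sum_induction _ _ (fun z z' hz hz' => hz.add hF h.1 hz') (eichIn_zero hF h.1)
      fun i _ => hgi i _
  · have hq3 : 3 ≤ q := by
      by_contra hq
      exact h32 ⟨by omega, by omega⟩
    obtain ⟨μ, hμ, hμ0, hμ1⟩ : ∃ μ : F, μ ^ q = μ ∧ μ ≠ 0 ∧ μ ≠ 1 := by
      classical
      by_contra hall
      push Not at hall
      have hc := card_fixed hF
      rw [Nat.card_eq_fintype_card, Fintype.card_subtype] at hc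
      have hle := Finset.card_le_card
        (s := Finset.univ.filter fun x : F => x ^ q = x) (t := {0, 1})
        (fun x hx => by
          simp only [Finset.mem_filter, Finset.mem_univ, true_and] at hx
          simp only [Finset.mem_insert, Finset.mem_singleton]
          by_cases hx0 : x = 0
          · exact Or.inl hx0
          · exact Or.inr (hall x hx hx0))
      have := hle.trans (Finset.card_le_two)
      omega
    obtain ⟨r, hr, hre, -, hrv⟩ := exists_scale_mem hF h hμ0 hμ
    refine eichIn_commutator hF h.1 (z := (μ - 1)⁻¹ • z)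
      (by rw [herm_smul_left, hze, mul_zero]) hze hr hre hμ ?_
    rw [hrv _ (by rw [herm_smul_left, hze, mul_zero]) (by rw [herm_smul_left, hzf, mul_zero])]
    rw [smul_smul, ← sub_smul, ← sub_one_mul, mul_inv_cancel₀ (sub_ne_zero.2 hμ1), one_smul]

/-- Modulo `TGroup` every isometry fixes a given hyperbolic pair. -/
theorem exists_mem_TGroup_fix_hyp (hF : Fintype.card F = q ^ 2) (hn : 3 ≤ n)
    (h32 : ¬ (n = 3 ∧ q = 2)) {e f : Fin n → F} (h : Hyp q e f) (g : GU n F q) :
    ∃ t ∈ TGroup F q n, (t * g).1.1 *ᵥ e = e ∧ (t * g).1.1 *ᵥ f = f := by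
  have he0 : e ≠ 0 := fun h0 => by simpa [h0, herm_zero_left] using h.2.2
  have hge : g.1.1 *ᵥ e ≠ 0 := fun h0 =>
    he0 (GU_mulVec_injective g (by simpa using h0))
  obtain ⟨t, ht, hte⟩ := exists_mem_TGroup_isotropic hF hn hge (by rw [GU_herm, h.1]) he0 h.1
  rw [← GU_mul_mulVec] at hte
  set f' := (t * g).1.1 *ᵥ f
  have h1 : hermForm n F q e f' = 1 := by rw [← hte, GU_herm, h.2.2]
  have h2 : hermForm n F q f' f' = 0 := by rw [GU_herm, h.2.1]
  set d := hermForm n F q f' f
  set z := f' - f - d • e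
  have hze : hermForm n F q z e = 0 := by
    simp [z, herm_sub_left, herm_smul_left, h.1, h.symm' hF, ← herm_conj e f' hF, h1]
  have hzf : hermForm n F q z f = 0 := by
    simp [z, herm_sub_left, herm_smul_left, h.2.1, h.2.2, d]
  have hd : d + d ^ q + hermForm n F q z z = 0 := by
    have hzf' : hermForm n F q z f' = -d ^ q - d := by
      simp [z, herm_sub_left, herm_smul_left, h2, h1, d, herm_conj f' f hF]
    have : hermForm n F q z z = hermForm n F q z f' := by
      conv_lhs => arg 5; simp only [z]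
      simp [herm_sub_right _ _ _ hF, herm_smul_right, hze, hzf]
    rw [this, hzf']; ring
  obtain ⟨E, hE, -⟩ := exists_eich hF h.1 hze hd
  have hEe : E.1.1 *ᵥ e = e := by
    rw [hE, h.1, herm_eq_zero_symm hF hze]; simp
  have hEf : E.1.1 *ᵥ f = f' := by
    rw [hE, h.symm' hF, herm_eq_zero_symm hF hzf]
    simp [z]
    abel
  refine ⟨E⁻¹ * t, mul_mem (inv_mem ((eich_mem_TGroup hF hn h32 h hze hzf).2 d hd E hE)) ht, ?_, ?_⟩
  · rw [mul_assoc, GU_mul_mulVec, hte]
    conv_lhs => rw [← hEe, GU_inv_mulVec]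
  · rw [mul_assoc, GU_mul_mulVec]
    show E⁻¹.1.1 *ᵥ f' = f
    rw [← hEf, GU_inv_mulVec]

/-! ### Generation -/

theorem embGU_mem_TGroup (hF : Fintype.card F = q ^ 2) {A : GU n F q} (hA : A ∈ TGroup F q n) :
    embGU hF A ∈ TGroup F q (n + 1) := by
  induction hA using Subgroup.closure_induction with
  | mem A h =>
    obtain ⟨v, c, hv, hc, hA⟩ := h
    refine tv_mem_TGroup (v := Fin.cons 0 v) ?_ hc fun x => ?_
    · simp [herm_succ, hv]
    · rw [embGU_val, embMat_mulVec, hA]
      ext i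
      refine Fin.cases ?_ (fun i => ?_) i <;> simp [herm_succ, zero_pow_q hF, Fin.tail]
  | one => rw [map_one]; exact one_mem _
  | mul A B _ _ h1 h2 => rw [map_mul]; exact mul_mem h1 h2
  | inv A _ h => rw [map_inv]; exact inv_mem h

theorem exists_hyp_any (hF : Fintype.card F = q ^ 2) (hn : 2 ≤ n) :
    ∃ e f : Fin n → F, Hyp q e f := by
  obtain ⟨a, _, _, ha, -⟩ := exists_three_norm_neg_one hF
  set i : Fin n := ⟨0, by omega⟩
  set j : Fin n := ⟨1, by omega⟩
  have hij : i ≠ j := by simp [i, j]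
  have hne : (Pi.single i (1 : F) + a • Pi.single j 1 : Fin n → F) ≠ 0 := fun h => by
    simpa [hij] using congrFun h i
  obtain ⟨f, hf⟩ := exists_hyp hF hne (herm_single_pair hF hij ha)
  exact ⟨_, f, hf⟩

theorem mem_TGroup_two (hF : Fintype.card F = q ^ 2) (g : GU 2 F q) (hdet : g.1.1.det = 1) :
    g ∈ TGroup F q 2 := by
  obtain ⟨e, f, h⟩ := exists_hyp_any hF le_rfl
  obtain ⟨c, hc, ho, hli⟩ := h.exists_complement hF
  refine mem_TGroup_of_fix_perp hF h g hdet fun v h1 h2 => ?_
  rw [h.complement_expand hF hc ho hli h1 h2]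
  simp

/-- `SU n` is generated by transvections for `n ≥ 3`, except `SU 3` with `q = 2`. -/
theorem mem_TGroup (hF : Fintype.card F = q ^ 2) :
    ∀ {n : ℕ}, 3 ≤ n → ¬ (n = 3 ∧ q = 2) → ∀ g : GU n F q, g.1.1.det = 1 → g ∈ TGroup F q n := by
  intro n
  induction n with
  | zero => intro h; omega
  | succ m ih =>
    intro hn h32 g hdet
    obtain ⟨e, f, h⟩ := exists_hyp_any (F := F) (n := m + 1) hF (by omega)
    obtain ⟨t, ht, hte, htf⟩ := exists_mem_TGroup_fix_hyp hF hn h32 h g
    suffices hk : t * g ∈ TGroup F q (m + 1) by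
      rw [show g = t⁻¹ * (t * g) by group]
      exact mul_mem (inv_mem ht) hk
    have hkdet : (t * g).1.1.det = 1 := by
      simp only [Subgroup.coe_mul, Units.val_mul, Matrix.det_mul, det_of_mem_TGroup hF ht, hdet,
        one_mul]
    set k := t * g
    obtain ⟨c, hc, ho, hli⟩ := h.exists_complement hF
    rcases (show m = 2 ∨ m = 3 ∨ 4 ≤ m by omega) with rfl | rfl | hm
    · -- n = 3
      have hkc : k.1.1 *ᵥ c 0 = k.1.1.det • c 0 := by
        obtain ⟨s, hs⟩ : ∃ s, k.1.1 *ᵥ c 0 = s • c 0 := by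
          have he' : hermForm _ F q (k.1.1 *ᵥ c 0) e = 0 := by rw [← hte, GU_herm, (ho 0).1]
          have hf' : hermForm _ F q (k.1.1 *ᵥ c 0) f = 0 := by rw [← htf, GU_herm, (ho 0).2]
          have := h.complement_expand hF hc ho hli he' hf'
          exact ⟨_, this.trans (Fin.sum_univ_one _)⟩
        have hs1 : s * s ^ q = 1 := by
          have := GU_herm (c 0) (c 0) k
          rw [hs, herm_smul_left, herm_smul_right, hc 0 0, if_pos rfl, mul_one] at this
          exact this
        obtain ⟨S, hSdet, hSc, hSfix⟩ := exists_GU_scale hF (x := c 0) (by simpa using hc 0 0) hs1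
        have hkS : k = S := h.ext hF
          (by rw [hte, hSfix e (herm_eq_zero_symm hF (ho 0).1)])
          (by rw [htf, hSfix f (herm_eq_zero_symm hF (ho 0).2)]) fun v h1 h2 => by
            rw [h.complement_expand hF hc ho hli h1 h2]
            simp only [Matrix.mulVec_sum, Matrix.mulVec_smul]
            refine Finset.sum_congr rfl fun i _ => ?_
            rw [Subsingleton.elim (α := Fin 1) i 0, hs, hSc]
        rw [hs, show k.1.1.det = s by rw [hkS, hSdet]]
      rw [hkdet, one_smul] at hkc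
      rw [show k = 1 from h.ext hF (by rw [hte, GU_one_mulVec]) (by rw [htf, GU_one_mulVec])
        fun v h1 h2 => by
          rw [h.complement_expand hF hc ho hli h1 h2]
          simp only [Matrix.mulVec_sum, Matrix.mulVec_smul]
          refine Finset.sum_congr rfl fun i _ => ?_
          rw [Subsingleton.elim (α := Fin 1) i 0, hkc, GU_one_mulVec]]
      exact one_mem _
    · -- n = 4: a second hyperbolic pair orthogonal to the first
      obtain ⟨a, _, _, ha, -⟩ := exists_three_norm_neg_one hF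
      set u := c 0 + a • c 1
      have hu : hermForm _ F q u u = 0 := by
        simp only [u, herm_add_left, herm_add_right _ _ _ hF, herm_smul_left, herm_smul_right,
          hc _ _, if_true, if_neg (show (0 : Fin 2) ≠ 1 by decide),
          if_neg (show (1 : Fin 2) ≠ 0 by decide), mul_zero, mul_one, add_zero, zero_add]
        linear_combination ha
      have hue : hermForm _ F q u e = 0 := by simp [u, herm_add_left, herm_smul_left, (ho _).1]
      have huf : hermForm _ F q u f = 0 := by simp [u, herm_add_left, herm_smul_left, (ho _).2]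
      obtain ⟨α, hα⟩ := trace_surj hF (y := 1) (one_pow q)
      set w := (1 : F) • c 0 + (α - 1) • u
      have hwu : hermForm _ F q u w = 1 := by
        simp only [w, one_smul, herm_add_right _ _ _ hF, herm_smul_right, hu, mul_zero, add_zero]
        simp [u, herm_add_left, herm_smul_left, hc _ _]
      obtain ⟨b, hb⟩ := exists_isotropic_shift hF hu (x := w) (by rw [hwu]; exact one_ne_zero)
      have h2 : Hyp q u (w + b • u) := ⟨hu, hb, by
        rw [herm_add_right _ _ _ hF, herm_smul_right, hu, mul_zero, add_zero, hwu]⟩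
      refine mem_TGroup_of_fix_perp hF h2 k hkdet fun v hv1 hv2 => ?_
      have hw0 : hermForm _ F q v (c 0) = 0 := by
        rw [herm_add_right _ _ _ hF, herm_smul_right, hv1, mul_zero, add_zero] at hv2
        rw [herm_add_right _ _ _ hF, herm_smul_right, herm_smul_right, hv1, mul_zero, add_zero,
          one_pow, one_mul] at hv2
        exact hv2
      have hw1 : hermForm _ F q v (c 1) = 0 := by
        rw [herm_add_right _ _ _ hF, herm_smul_right, hw0, zero_add] at hv1
        refine (mul_eq_zero.1 hv1).resolve_left (pow_ne_zero q ?_)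
        intro h0; simp [h0] at ha
      obtain ⟨r1, r2⟩ := h.rest_perp hF v
      have hr := h.complement_expand hF hc ho hli r1 r2
      have hz : ∀ i, hermForm _ F q (v - hermForm _ F q v f • e - hermForm _ F q v e • f) (c i)
          = 0 := by
        intro i
        rw [herm_sub_left, herm_sub_left, herm_smul_left, herm_smul_left,
          herm_eq_zero_symm hF (ho i).1, herm_eq_zero_symm hF (ho i).2, mul_zero, mul_zero,
          sub_zero, sub_zero]
        revert i
        exact Fin.forall_fin_two.2 ⟨hw0, hw1⟩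
      simp only [hz, zero_smul, Finset.sum_const_zero] at hr
      rw [sub_sub, sub_eq_zero] at hr
      conv_lhs => rw [hr]
      simp only [Matrix.mulVec_add, Matrix.mulVec_smul, hte, htf]
      exact hr.symm
    · -- n ≥ 5: fix a norm-one vector and descend
      obtain ⟨α, hα⟩ := trace_surj hF (y := 1) (one_pow q)
      set x := α • e + f
      have hx : hermForm _ F q x x = 1 := by
        simp only [x, herm_add_left, herm_add_right _ _ _ hF, herm_smul_left, herm_smul_right, h.1,
          h.2.1, h.2.2, h.symm' hF, mul_zero, add_zero, zero_add, mul_one]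
        linear_combination hα
      have hkx : k.1.1 *ᵥ x = x := by
        simp only [x, Matrix.mulVec_add, Matrix.mulVec_smul, hte, htf]
      obtain ⟨A, hA⟩ := exists_GU_norm_one hF hx (y := Pi.single 0 1) (by rw [herm_std hF]; simp)
      obtain ⟨B, hB⟩ := exists_embGU hF (A * k * A⁻¹) (by
        conv_lhs => rw [GU_mul_mulVec, GU_mul_mulVec, ← hA, GU_inv_mulVec, hkx]
        exact hA)
      have hBdet : B.1.1.det = 1 := by
        have h1 := embGU_det hF B
        rw [hB] at h1
        rw [← h1, Subgroup.coe_mul, Subgroup.coe_mul, Units.val_mul, Units.val_mul, Matrix.det_mul,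
          Matrix.det_mul, hkdet, mul_one, ← Matrix.det_mul, ← Units.val_mul, ← Subgroup.coe_mul,
          mul_inv_cancel]
        simp
      have hmem := embGU_mem_TGroup hF (ih (by omega) (by omega) B hBdet)
      rw [hB] at hmem
      rw [show k = A⁻¹ * (A * k * A⁻¹) * A by group]
      simpa using TGroup_normal.conj_mem _ hmem A⁻¹

/-- The set of transvections in `SU`. -/
theorem suTransvections_closure (hF : Fintype.card F = q ^ 2) (hn : 3 ≤ n)
    (h32 : ¬ (n = 3 ∧ q = 2)) :
    Subgroup.closure {A : SU n F q | IsTv (suToGU n F q A)} = ⊤ := by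
  refine eq_top_iff.2 fun A _ => ?_
  have hA : suToGU n F q A ∈ TGroup F q n := mem_TGroup hF hn h32 _ (by simpa using A.1.2)
  have hle : TGroup F q n ≤
      (Subgroup.closure {A : SU n F q | IsTv (suToGU n F q A)}).map (suToGU n F q) := by
    refine (Subgroup.closure_le _).2 fun B hB => ?_
    obtain ⟨X, hX⟩ : B ∈ (suToGU n F q).range := by
      rw [suToGU_range]; exact MonoidHom.mem_ker.2 (Units.ext (IsTv.det hF hB))
    exact ⟨X, Subgroup.subset_closure (by simpa [hX] using hB), hX⟩
  obtain ⟨X, hX, hXA⟩ := hle hA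
  rw [← suToGU_injective hXA]
  exact hX

theorem mem_commutator_of_isTv (hF : Fintype.card F = q ^ 2) (hn : 3 ≤ n) {A : SU n F q}
    (hA : IsTv (suToGU n F q A)) : A ∈ commutator (SU n F q) := by
  obtain ⟨v, c, hv, hc, hT⟩ := hA
  obtain ⟨g, h, hg, hh, hgh⟩ := tv_commutator hF hn hT hv hc
  have hsu : ∀ x : GU n F q, x.1.1.det = 1 → ∃ X, suToGU n F q X = x := fun x hx => by
    rw [← MonoidHom.mem_range, suToGU_range]
    exact MonoidHom.mem_ker.2 (Units.ext hx)
  obtain ⟨G, hG⟩ := hsu g hg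
  obtain ⟨H, hH⟩ := hsu h hh
  rw [show A = ⁅G, H⁆ from suToGU_injective (by rw [map_commutatorElement, hG, hH, hgh]),
    commutator_def]
  exact Subgroup.commutator_mem_commutator trivial trivial

theorem commutator_SU (hF : Fintype.card F = q ^ 2) (hn : 3 ≤ n) (h32 : ¬ (n = 3 ∧ q = 2)) :
    commutator (SU n F q) = ⊤ := by
  rw [eq_top_iff, ← suTransvections_closure hF hn h32, Subgroup.closure_le]
  exact fun A hA => mem_commutator_of_isTv hF hn hA

end Cfsg.Agent.Lib.Unitary
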