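import Mathlib
import Cfsg.Agent.Lib.Unitary.Generation

/-!
Lib/Unitary/Simple: Iwasawa's argument. A normal subgroup of `SU n` which is not central is
everything (`n ≥ 3`, not `(3, 2)`); `PSU n` is simple.
-/

set_option autoImplicit false
set_option linter.unusedSectionVars false

namespace Cfsg.Agent.Lib.Unitary

open Matrix Module
open scoped commutatorElement

variable {F : Type*} [Field F] [Fintype F] {q : ℕ} {n : ℕ}

/-- Nonzero isotropic vector. -/
def IsoVec (q : ℕ) (v : Fin n → F) : Prop := v ≠ 0 ∧ hermForm n F q v v = 0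

/-- The lines of `u` and `v` are in one orbit of `N`. -/
def OrbitRel (N : Subgroup (SU n F q)) (u v : Fin n → F) : Prop :=
  ∃ g ∈ N, ∃ a : F, a ≠ 0 ∧ g.1.1 *ᵥ u = a • v

theorem SU_mul_mulVec (A B : SU n F q) (v : Fin n → F) :
    (A * B).1.1 *ᵥ v = A.1.1 *ᵥ (B.1.1 *ᵥ v) := by
  simp [Matrix.mulVec_mulVec]

theorem SU_inv_mulVec (A : SU n F q) (v : Fin n → F) : A⁻¹.1.1 *ᵥ (A.1.1 *ᵥ v) = v := by
  rw [← SU_mul_mulVec, inv_mul_cancel]; simp

theorem OrbitRel.trans {N : Subgroup (SU n F q)} {u v w : Fin n → F} (h : OrbitRel N u v)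
    (h' : OrbitRel N v w) : OrbitRel N u w := by
  obtain ⟨g, hg, a, ha, hga⟩ := h
  obtain ⟨g', hg', b, hb, hgb⟩ := h'
  exact ⟨g' * g, mul_mem hg' hg, a * b, mul_ne_zero ha hb, by
    rw [SU_mul_mulVec, hga, Matrix.mulVec_smul, hgb, smul_smul]⟩

/-- Transport of the orbit relation along an element of `SU`. -/
theorem OrbitRel.transport {N : Subgroup (SU n F q)} (hN : N.Normal) {u v u' v' : Fin n → F}
    (h : OrbitRel N u v) (A : SU n F q) {a b : F} (ha : a ≠ 0) (hb : b ≠ 0)
    (hu : A.1.1 *ᵥ u = a • u') (hv : A.1.1 *ᵥ v = b • v') : OrbitRel N u' v' := by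
  obtain ⟨g, hg, c, hc, hgc⟩ := h
  refine ⟨A * g * A⁻¹, hN.conj_mem g hg A, a⁻¹ * c * b,
    mul_ne_zero (mul_ne_zero (inv_ne_zero ha) hc) hb, ?_⟩
  have hu' : u' = a⁻¹ • (A.1.1 *ᵥ u) := by rw [hu, smul_smul, inv_mul_cancel₀ ha, one_smul]
  rw [hu', Matrix.mulVec_smul, SU_mul_mulVec, SU_mul_mulVec, SU_inv_mulVec, hgc,
    Matrix.mulVec_smul, hv, smul_smul, smul_smul]

theorem exists_SU_of_GU {A : GU n F q} (h : A.1.1.det = 1) :
    ∃ X : SU n F q, X.1.1 = A.1.1 := by
  obtain ⟨X, hX⟩ : A ∈ (suToGU n F q).range := by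
    rw [suToGU_range]; exact MonoidHom.mem_ker.2 (Units.ext h)
  exact ⟨X, by rw [← hX, suToGU_val]⟩

theorem hyp_of_nonorth (hF : Fintype.card F = q ^ 2) {u w : Fin n → F}
    (hu : hermForm n F q u u = 0) (hw : hermForm n F q w w = 0)
    (h : hermForm n F q u w ≠ 0) : Hyp q u (((hermForm n F q u w) ^ q)⁻¹ • w) := by
  refine ⟨hu, ?_, ?_⟩
  · rw [herm_smul_left, herm_smul_right, hw, mul_zero, mul_zero]
  · rw [herm_smul_right, inv_pow, pow_q_q hF, inv_mul_cancel₀ h]

/-- Two orthogonal independent isotropic vectors force `n ≥ 4`. -/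
theorem four_le_of_orth (hF : Fintype.card F = q ^ 2) {e s : Fin n → F}
    (hli : LinearIndependent F ![e, s]) (he : hermForm n F q e e = 0)
    (hs : hermForm n F q s s = 0) (hes : hermForm n F q e s = 0) : 4 ≤ n := by
  set W := Submodule.span F (Set.range ![e, s])
  have hle : W ≤ perp q W := by
    refine Submodule.span_le.2 ?_
    rintro _ ⟨i, rfl⟩
    refine (mem_perp_span_range hF).2 fun j => ?_
    fin_cases i <;> fin_cases j <;> simp [he, hs, hes, herm_eq_zero_symm hF hes]
  have h1 := Submodule.finrank_mono hle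
  have h2 := finrank_perp hF W
  rw [finrank_span_eq_card hli, Fintype.card_fin] at h1 h2
  omega

/-- An isotropic vector orthogonal to both members of a hyperbolic pair, `n ≥ 4`. -/
theorem exists_orth_both (hF : Fintype.card F = q ^ 2) (hn : 4 ≤ n) {e f : Fin n → F}
    (h : Hyp q e f) :
    ∃ s, IsoVec q s ∧ hermForm n F q s e = 0 ∧ hermForm n F q s f = 0 := by
  obtain ⟨g, hg, ho, -⟩ := h.exists_complement hF
  obtain ⟨a, _, _, ha, -⟩ := exists_three_norm_neg_one hF
  set i : Fin (n - 2) := ⟨0, by omega⟩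
  set j : Fin (n - 2) := ⟨1, by omega⟩
  have hij : i ≠ j := by simp [i, j]
  have hgij : ∀ k l, hermForm n F q (g k) (g l) = if k = l then 1 else 0 := hg
  refine ⟨g i + a • g j, ⟨fun h0 => ?_, ?_⟩, ?_, ?_⟩
  · have := congrArg (fun v => hermForm n F q v (g i)) h0
    simp [herm_add_left, herm_smul_left, herm_zero_left, hgij, hij.symm] at this
  · simp only [herm_add_left, herm_add_right _ _ _ hF, herm_smul_left, herm_smul_right, hgij,
      if_true, if_neg hij, if_neg hij.symm, mul_zero, mul_one, add_zero, zero_add]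
    linear_combination ha
  · simp [herm_add_left, herm_smul_left, (ho _).1]
  · simp [herm_add_left, herm_smul_left, (ho _).2]

theorem indep_of_orbit_pair {e s : Fin n → F} (he0 : e ≠ 0) (h : ∀ a : F, s ≠ a • e) :
    LinearIndependent F ![e, s] := by
  rw [LinearIndependent.pair_iff]
  intro a b hab
  have hb : b = 0 := by
    by_contra hb
    refine h (-a / b) ?_
    rw [div_eq_inv_mul, ← smul_smul, eq_inv_smul_iff₀ hb, neg_smul]
    exact eq_neg_of_add_eq_zero_right hab
  rw [hb, zero_smul, add_zero] at hab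
  exact ⟨(smul_eq_zero.1 hab).resolve_right he0, hb⟩

/-- A non-central normal subgroup of `SU n` is transitive on isotropic lines. -/
theorem orbitRel_all (hF : Fintype.card F = q ^ 2) (hn : 3 ≤ n) {N : Subgroup (SU n F q)}
    (hN : N.Normal) (hNc : ¬ N ≤ Subgroup.center (SU n F q)) {u w : Fin n → F}
    (hu : IsoVec q u) (hw : IsoVec q w) : OrbitRel N u w := by
  obtain ⟨g, hg, e, ⟨he0, he⟩, hmove⟩ :
      ∃ g ∈ N, ∃ e, IsoVec q e ∧ ∀ a : F, g.1.1 *ᵥ e ≠ a • e := by
    by_contra hall
    push Not at hall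
    refine hNc fun g hg => (mem_center_SU_iff hF (by omega) g).2
      (scalar_of_isotropic_eigen hF (by omega) _ fun v hv => ?_)
    rcases eq_or_ne v 0 with rfl | hv0
    · exact ⟨0, by simp⟩
    · exact hall g hg v ⟨hv0, hv⟩
  set s := g.1.1 *ᵥ e
  have hs : hermForm n F q s s = 0 := by rw [mem_SU_iff.1 g.2, he]
  have hes : OrbitRel N e s := ⟨g, hg, 1, one_ne_zero, by rw [one_smul]⟩
  -- one class of pairs is related
  have hnonorth_to : ∀ {e' s' : Fin n → F}, hermForm n F q e s ≠ 0 → IsoVec q e' → IsoVec q s' →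
      hermForm n F q e' s' ≠ 0 → OrbitRel N e' s' := by
    intro e' s' h0 he' hs' h1
    obtain ⟨A, hAdet, hAe, hAs⟩ :=
      exists_SU_hyp hF hn (hyp_of_nonorth hF he hs h0) (hyp_of_nonorth hF he'.2 hs'.2 h1)
    obtain ⟨X, hX⟩ := exists_SU_of_GU hAdet
    have hc : ∀ {x : F}, x ≠ 0 → (x ^ q)⁻¹ ≠ 0 := fun hx => inv_ne_zero (pow_ne_zero q hx)
    refine hes.transport hN X one_ne_zero
      (b := hermForm n F q e s ^ q * (hermForm n F q e' s' ^ q)⁻¹)
      (mul_ne_zero (pow_ne_zero q h0) (hc h1)) (by rw [hX, hAe, one_smul]) ?_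
    rw [Matrix.mulVec_smul] at hAs
    rw [hX, ← smul_smul, ← hAs, smul_inv_smul₀ (pow_ne_zero q h0)]
  have horth_to : ∀ {e' s' : Fin n → F}, hermForm n F q e s = 0 →
      LinearIndependent F ![e', s'] → hermForm n F q e' e' = 0 → hermForm n F q s' s' = 0 →
      hermForm n F q e' s' = 0 → OrbitRel N e' s' := by
    intro e' s' h0 hli' he' hs' h1
    obtain ⟨A, a, ha, hAdet, hAe, hAs⟩ := exists_SU_isotropic_pair hF
      (indep_of_orbit_pair he0 hmove) he hs h0 hli' he' hs' h1
    obtain ⟨X, hX⟩ := exists_SU_of_GU hAdet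
    exact hes.transport hN X ha one_ne_zero (by rw [hX, hAe]) (by rw [hX, hAs, one_smul])
  by_cases hdep : ∃ a : F, w = a • u
  · obtain ⟨a, rfl⟩ := hdep
    have ha : a ≠ 0 := fun h0 => hw.1 (by rw [h0, zero_smul])
    exact ⟨1, one_mem _, a⁻¹, inv_ne_zero ha, by simp [smul_smul, ha]⟩
  push Not at hdep
  by_cases h0 : hermForm n F q e s = 0
  · have h4 := four_le_of_orth hF (indep_of_orbit_pair he0 hmove) he hs h0
    by_cases huw : hermForm n F q u w = 0
    · exact horth_to h0 (indep_of_orbit_pair hu.1 hdep) hu.2 hw.2 huw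
    · have hp := hyp_of_nonorth hF hu.2 hw.2 huw
      obtain ⟨t, ht, htu, htw⟩ := exists_orth_both hF h4 hp
      rw [herm_smul_right] at htw
      have htw' : hermForm n F q t w = 0 := (mul_eq_zero.1 htw).resolve_left
        (pow_ne_zero q (inv_ne_zero (pow_ne_zero q huw)))
      refine OrbitRel.trans (v := t) ?_ ?_
      · refine horth_to h0 (indep_of_orbit_pair hu.1 fun a ha => ?_) hu.2 ht.2
          (herm_eq_zero_symm hF htu)
        rw [ha, herm_smul_left] at htw'
        exact huw ((mul_eq_zero.1 htw').resolve_left fun ha0 =>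
          ht.1 (by rw [ha, ha0, zero_smul]))
      · refine horth_to h0 (indep_of_orbit_pair ht.1 fun a ha => ?_) ht.2 hw.2 htw'
        exact huw (by rw [ha, herm_smul_right, herm_eq_zero_symm hF htu, mul_zero])
  · by_cases huw : hermForm n F q u w = 0
    · obtain ⟨x, hx, hux, hwx⟩ := exists_common_nonorth hF hu.1 hu.2 hw.1 huw
      have hx0 : x ≠ 0 := fun h => hux (by rw [h, herm_zero_right _ hF])
      exact (hnonorth_to h0 hu ⟨hx0, hx⟩ hux).trans
        (hnonorth_to h0 ⟨hx0, hx⟩ hw fun h => hwx (herm_eq_zero_symm hF h))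
    · exact hnonorth_to h0 hu hw huw

theorem SU_normal_eq_top (hF : Fintype.card F = q ^ 2) (hn : 3 ≤ n) (h32 : ¬ (n = 3 ∧ q = 2))
    {N : Subgroup (SU n F q)} (hN : N.Normal) (hNc : ¬ N ≤ Subgroup.center (SU n F q)) :
    N = ⊤ := by
  obtain ⟨e, f, hef⟩ := exists_hyp_any (F := F) (n := n) hF (by omega)
  have he : IsoVec q e := ⟨fun h0 => by simpa [h0, herm_zero_left] using hef.2.2, hef.1⟩
  -- transvections with axis `e`
  let A : Subgroup (SU n F q) :=
    { carrier := {X | ∃ c : F, c + c ^ q = 0 ∧ IsTvAt e c (suToGU n F q X)}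
      one_mem' := ⟨0, by simp [zero_pow_q hF], fun x => by simp⟩
      mul_mem' := by
        rintro X Y ⟨c, hc, hX⟩ ⟨d, hd, hY⟩
        refine ⟨c + d, by rw [add_pow_q hF]; linear_combination hc + hd, fun x => ?_⟩
        rw [map_mul, GU_mul_mulVec, hY, hX, herm_add_left, herm_smul_left, he.2, mul_zero,
          add_zero, add_mul, add_smul, add_assoc, add_comm (_ • e)]
      inv_mem' := by
        rintro X ⟨c, hc, hX⟩
        refine ⟨-c, by rw [neg_pow_q hF]; linear_combination -hc, fun x => ?_⟩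
        apply GU_mulVec_injective (suToGU n F q X)
        dsimp only
        rw [map_inv, GU_mulVec_inv, hX, herm_add_left, herm_smul_left, he.2, mul_zero, add_zero,
          add_assoc, ← add_smul, ← add_mul, neg_add_cancel, zero_mul, zero_smul, add_zero] }
  have hAcomm : IsMulCommutative A := by
    constructor; constructor
    rintro ⟨X, c, hc, hX⟩ ⟨Y, d, hd, hY⟩
    refine Subtype.ext (suToGU_injective (GU_ext fun x => ?_))
    show (suToGU n F q (X * Y)).1.1 *ᵥ x = (suToGU n F q (Y * X)).1.1 *ᵥ x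
    rw [map_mul, map_mul, GU_mul_mulVec, GU_mul_mulVec]
    simp only [hX _, hY _, herm_add_left, herm_smul_left,
      he.2, mul_zero, add_zero]
    exact add_right_comm _ _ _
  have hgen : N ⊔ A = ⊤ := by
    rw [eq_top_iff, ← suTransvections_closure hF hn h32, Subgroup.closure_le]
    rintro X ⟨v, c, hv, hc, hX⟩
    rcases eq_or_ne v 0 with hv0 | hv0
    · rw [show X = 1 from suToGU_injective (by
        rw [map_one]; exact GU_ext fun x => by rw [hX x, hv0, smul_zero, add_zero, GU_one_mulVec])]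
      exact one_mem _
    obtain ⟨g, hg, a, ha, hga⟩ := orbitRel_all hF hn hN hNc he ⟨hv0, hv⟩
    have haa : a * a ^ q ≠ 0 := mul_ne_zero ha (pow_ne_zero q ha)
    have hc' : c / (a * a ^ q) + (c / (a * a ^ q)) ^ q = 0 := by
      rw [div_pow, mul_pow, pow_q_q hF, mul_comm (a ^ q) a, ← add_div, hc, zero_div]
    obtain ⟨T, hT, hTdet⟩ := exists_tv hF he.2 hc'
    obtain ⟨Y, hY⟩ : T ∈ (suToGU n F q).range := by
      rw [suToGU_range]; exact MonoidHom.mem_ker.2 (Units.ext hTdet)
    have hYA : Y ∈ A := ⟨_, hc', by rw [hY]; exact hT⟩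
    have hkey : X = g * Y * g⁻¹ := by
      apply suToGU_injective
      refine hX.unique ?_
      rw [map_mul, map_mul, map_inv, hY]
      have h := hT.conj (suToGU n F q g)
      rw [suToGU_val, hga] at h
      intro x
      rw [h x, herm_smul_right, smul_smul]
      congr 2
      field_simp
    rw [hkey]
    exact mul_mem (mul_mem (Subgroup.mem_sup_left hg) (Subgroup.mem_sup_right hYA))
      (inv_mem (Subgroup.mem_sup_left hg))
  rw [eq_top_iff, ← commutator_SU hF hn h32]
  exact Subgroup.Normal.commutator_le_of_self_sup_commutative_eq_top hgen hAcomm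

theorem isSimpleGroup_PSU (hF : Fintype.card F = q ^ 2) (hn : 3 ≤ n) (h32 : ¬ (n = 3 ∧ q = 2)) :
    IsSimpleGroup (PSU n F q) := by
  have hnt : Nontrivial (PSU n F q) := by
    by_contra h
    have hs : Subsingleton (PSU n F q) := not_nontrivial_iff_subsingleton.1 h
    have htop : Subgroup.center (SU n F q) = ⊤ := by
      rw [eq_top_iff]
      intro x _
      exact (QuotientGroup.eq_one_iff x).1 (Subsingleton.elim _ _)
    have hcomm : commutator (SU n F q) = ⊥ := by
      rw [commutator_def, Subgroup.commutator_eq_bot_iff_le_centralizer, Subgroup.coe_top,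
        Subgroup.centralizer_univ, htop]
    rw [commutator_SU hF hn h32] at hcomm
    obtain ⟨θ, hθ0, hθ⟩ := exists_trace_zero_ne_zero hF
    obtain ⟨e, f, hef⟩ := exists_hyp_any (F := F) (n := n) hF (by omega)
    obtain ⟨T, hT, hTdet⟩ := exists_tv hF hef.1 hθ
    obtain ⟨X, hX⟩ : T ∈ (suToGU n F q).range := by
      rw [suToGU_range]; exact MonoidHom.mem_ker.2 (Units.ext hTdet)
    have hX1 : X = 1 := by
      have : X ∈ (⊥ : Subgroup (SU n F q)) := by rw [← hcomm]; trivial
      exact Subgroup.mem_bot.1 this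
    have h1 := hT f
    rw [← hX, hX1, map_one, GU_one_mulVec, hef.symm' hF, mul_one] at h1
    have h2 : θ • e = 0 := by simpa using h1.symm
    rcases smul_eq_zero.1 h2 with h | h
    · exact hθ0 h
    · exact (hef.finrank_span hF).1.ne_zero 0 (by simpa using h)
  refine IsSimpleGroup.mk fun K hK => ?_
  set N := K.comap (QuotientGroup.mk' (Subgroup.center (SU n F q))) with hN
  by_cases hc : N ≤ Subgroup.center (SU n F q)
  · left
    rw [eq_bot_iff]
    intro k hk
    obtain ⟨x, rfl⟩ := QuotientGroup.mk'_surjective _ k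
    exact (QuotientGroup.eq_one_iff x).2 (hc hk)
  · right
    have := SU_normal_eq_top hF hn h32 (hK.comap _) hc
    rw [← Subgroup.map_comap_eq_self_of_surjective (QuotientGroup.mk'_surjective _) K, this,
      Subgroup.map_top_of_surjective _ (QuotientGroup.mk'_surjective _)]

end Cfsg.Agent.Lib.Unitary
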