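import Mathlib
import Cfsg.Agent.Lib.Unitary.Order

/-!
Lib/Unitary/Isotropic: counting totally isotropic planes.
-/

set_option autoImplicit false
set_option linter.unusedSectionVars false

namespace Cfsg.Agent.Lib.Unitary

open Matrix Module

variable {F : Type*} [Field F] [Fintype F] {q : ℕ} {n : ℕ}

/-- Isotropic vectors orthogonal to a given nonzero isotropic vector, off its line. -/
theorem card_orth_iso (hF : Fintype.card F = q ^ 2) {v : Fin n → F} (hv : v ≠ 0)
    (hv0 : hermForm n F q v v = 0) :
    Nat.card {w : Fin n → F // hermForm n F q w v = 0 ∧ hermForm n F q w w = 0 ∧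
      ∀ a : F, w ≠ a • v} = q ^ 2 * (countNull F q (n - 2) - 1) := by
  classical
  obtain ⟨f, hf⟩ := exists_hyp hF hv hv0
  obtain ⟨g, hg, ho, hli⟩ := hf.exists_complement hF
  have hexp : ∀ w, hermForm n F q w v = 0 →
      w = hermForm n F q w f • v + ∑ i, hermForm n F q w (g i) • g i := by
    intro w hw
    set r := w - hermForm n F q w f • v
    have hre : hermForm n F q r v = 0 := by simp [r, herm_sub_left, herm_smul_left, hw, hv0]
    have hrf : hermForm n F q r f = 0 := by simp [r, herm_sub_left, herm_smul_left, hf.2.2]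
    have hrg : ∀ i, hermForm n F q r (g i) = hermForm n F q w (g i) := fun i => by
      simp [r, herm_sub_left, herm_smul_left, herm_eq_zero_symm hF (ho i).1]
    have hsp : Submodule.span F (Set.range (Sum.elim ![v, f] g)) = ⊤ :=
      hli.span_eq_top_of_card_eq_finrank' (by simp; have := hf.two_le hF; omega)
    rw [← sub_eq_zero, ← sub_sub]
    refine herm_nondeg_left hF fun u => ?_
    obtain ⟨c, rfl⟩ := (Submodule.mem_span_range_iff_exists_fun F).1
      (show u ∈ Submodule.span F (Set.range (Sum.elim ![v, f] g)) by rw [hsp]; trivial)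
    rw [herm_sum_right _ hF, Finset.sum_eq_zero]
    intro i _
    rcases i with i | i
    · fin_cases i
      · simp [herm_smul_right, herm_sub_left, herm_sum_left, herm_smul_left, hw, hv0, (ho _).1]
      · simp [herm_smul_right, herm_sub_left, herm_sum_left, herm_smul_left, hf.2.2, (ho _).2]
    · simp [herm_smul_right, herm_sub_left, herm_sum_left, herm_smul_left,
        herm_eq_zero_symm hF (ho i).1, hg _ _]
  have hnorm : ∀ (a : F) (x : Fin (n - 2) → F),
      hermForm n F q (a • v + ∑ i, x i • g i) (a • v + ∑ i, x i • g i) = hermForm (n - 2) F q x x := by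
    intro a x
    have h1 : hermForm n F q (∑ i, x i • g i) v = 0 := by
      simp [herm_sum_left, herm_smul_left, (ho _).1]
    have h2 : hermForm n F q (∑ i, x i • g i) (∑ i, x i • g i) = hermForm (n - 2) F q x x := by
      rw [herm_sum_sum hF]
      simp only [hg _ _, mul_ite, mul_one, mul_zero, Finset.sum_ite_eq, Finset.mem_univ, if_true]
      rfl
    simp [herm_add_left, herm_add_right _ _ _ hF, herm_smul_left, herm_smul_right, hv0, h1,
      herm_eq_zero_symm hF h1, h2]
  have hin : ∀ (a : F) (x : Fin (n - 2) → F),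
      hermForm n F q (a • v + ∑ i, x i • g i) v = 0 ∧
        hermForm n F q (a • v + ∑ i, x i • g i) f = a ∧
        ∀ i, hermForm n F q (a • v + ∑ i, x i • g i) (g i) = x i := by
    intro a x
    refine ⟨?_, ?_, fun i => ?_⟩
    · simp [herm_add_left, herm_smul_left, hv0, herm_sum_left, (ho _).1]
    · simp [herm_add_left, herm_smul_left, hf.2.2, herm_sum_left, (ho _).2]
    · simp [herm_add_left, herm_smul_left, herm_eq_zero_symm hF (ho i).1,
        orthonormal_coeff hg]
  let e : F × {x : Fin (n - 2) → F // hermForm (n - 2) F q x x = 0 ∧ x ≠ 0} ≃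
      {w : Fin n → F // hermForm n F q w v = 0 ∧ hermForm n F q w w = 0 ∧ ∀ a : F, w ≠ a • v} :=
    { toFun := fun p => ⟨p.1 • v + ∑ i, p.2.1 i • g i, (hin _ _).1, by rw [hnorm]; exact p.2.2.1,
        fun b hb => p.2.2.2 (funext fun i => by
          have := (hin p.1 p.2.1).2.2 i
          rw [hb, herm_smul_left, herm_eq_zero_symm hF (ho i).1, mul_zero] at this
          exact this.symm)⟩
      invFun := fun w => (hermForm n F q w.1 f, ⟨fun i => hermForm n F q w.1 (g i), by
          have h := w.2.2.1
          rw [hexp w.1 w.2.1, hnorm] at h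
          exact h, fun h0 => by
          refine w.2.2.2 (hermForm n F q w.1 f) ?_
          conv_lhs => rw [hexp w.1 w.2.1]
          rw [show (∑ i, hermForm n F q w.1 (g i) • g i) = 0 from
            Finset.sum_eq_zero fun i _ => by rw [show hermForm n F q w.1 (g i) = 0 from
              congrFun h0 i, zero_smul], add_zero]⟩)
      left_inv := fun p => by
        refine Prod.ext ?_ (Subtype.ext (funext fun i => ?_))
        · exact (hin p.1 p.2.1).2.1
        · exact (hin p.1 p.2.1).2.2 i
      right_inv := fun w => Subtype.ext (hexp w.1 w.2.1).symm }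
  rw [← Nat.card_congr e, Nat.card_prod, Nat.card_eq_fintype_card, hF]
  congr 1
  rw [countNull, Nat.card_eq_fintype_card, Nat.card_eq_fintype_card, Fintype.card_subtype,
    Fintype.card_subtype, show (Finset.univ.filter fun x : Fin (n - 2) → F =>
      hermForm (n - 2) F q x x = 0 ∧ x ≠ 0) =
      (Finset.univ.filter fun x : Fin (n - 2) → F => hermForm (n - 2) F q x x = 0).erase 0 by
        ext x; simp [and_comm], Finset.card_erase_of_mem (by simp [herm_zero_left])]

/-- Number of totally isotropic planes, times the number of bases of a plane. -/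
theorem card_tiPlanes_mul (hF : Fintype.card F = q ^ 2) :
    Nat.card {W : Submodule F (Fin n → F) // finrank F W = 2 ∧
      ∀ u ∈ W, ∀ v ∈ W, hermForm n F q u v = 0} *
      (((q ^ 2) ^ 2 - 1) * ((q ^ 2) ^ 2 - q ^ 2)) =
      (countNull F q n - 1) * (q ^ 2 * (countNull F q (n - 2) - 1)) := by
  classical
  let P := {p : Fin 2 → Fin n → F // LinearIndependent F p ∧ ∀ i j, hermForm n F q (p i) (p j) = 0}
  let T := {W : Submodule F (Fin n → F) // finrank F W = 2 ∧
      ∀ u ∈ W, ∀ v ∈ W, hermForm n F q u v = 0}
  have h1 : Nat.card P = Nat.card T * (((q ^ 2) ^ 2 - 1) * ((q ^ 2) ^ 2 - q ^ 2)) := by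
    let sp : P → T := fun p => ⟨Submodule.span F (Set.range p.1),
      by rw [finrank_span_eq_card p.2.1, Fintype.card_fin], fun u hu v hv => by
        obtain ⟨a, rfl⟩ := (Submodule.mem_span_range_iff_exists_fun F).1 hu
        obtain ⟨b, rfl⟩ := (Submodule.mem_span_range_iff_exists_fun F).1 hv
        rw [herm_sum_sum hF]; simp [p.2.2]⟩
    rw [Nat.card_congr (Equiv.sigmaFiberEquiv sp).symm, Nat.card_sigma,
      Finset.sum_congr rfl fun W _ => (show Nat.card {p : P // sp p = W} =
        ((q ^ 2) ^ 2 - 1) * ((q ^ 2) ^ 2 - q ^ 2) from ?_), Finset.sum_const, Finset.card_univ,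
      smul_eq_mul, ← Nat.card_eq_fintype_card]
    have hcard := card_linearIndependent (K := F) (V := W.1) (k := 2) (by rw [W.2.1])
    rw [W.2.1, Fin.prod_univ_two, hF] at hcard
    simp only [Fin.val_zero, Fin.val_one, pow_zero, pow_one] at hcard
    rw [← hcard]
    have hmem : ∀ (p : P) (hp : sp p = W) i, p.1 i ∈ W.1 := fun p hp i => by
      rw [← hp]; exact Submodule.subset_span ⟨i, rfl⟩
    refine Nat.card_congr
      { toFun := fun p => ⟨fun i => ⟨p.1.1 i, hmem p.1 p.2 i⟩,
          LinearIndependent.of_comp W.1.subtype p.1.2.1⟩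
        invFun := fun f => ⟨⟨fun i => (f.1 i : Fin n → F),
            f.2.map' W.1.subtype (Submodule.ker_subtype _),
            fun i j => W.2.2 _ (f.1 i).2 _ (f.1 j).2⟩, Subtype.ext ?_⟩
        left_inv := fun p => rfl
        right_inv := fun f => rfl }
    refine Submodule.eq_of_le_of_finrank_eq ?_ ?_
    · exact Submodule.span_le.2 (Set.range_subset_iff.2 fun i => (f.1 i).2)
    · show finrank F (Submodule.span F (Set.range fun i => (f.1 i : Fin n → F))) = finrank F W.1
      rw [finrank_span_eq_card (b := fun i => (f.1 i : Fin n → F))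
        (f.2.map' W.1.subtype (Submodule.ker_subtype _)), Fintype.card_fin, W.2.1]
  have h2 : Nat.card P = (countNull F q n - 1) * (q ^ 2 * (countNull F q (n - 2) - 1)) := by
    have hmk : ∀ (v w : Fin n → F), v ≠ 0 → hermForm n F q v v = 0 → hermForm n F q w v = 0 →
        hermForm n F q w w = 0 → (∀ a : F, w ≠ a • v) →
        LinearIndependent F ![v, w] ∧ ∀ i j, hermForm n F q (![v, w] i) (![v, w] j) = 0 := by
      intro v w hv hvv hwv hww hne
      refine ⟨?_, fun i j => ?_⟩
      · rw [LinearIndependent.pair_iff]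
        intro a b hab
        have hb : b = 0 := by
          by_contra hb
          refine hne (-a / b) ?_
          rw [div_eq_inv_mul, ← smul_smul, eq_inv_smul_iff₀ hb, neg_smul]
          exact eq_neg_of_add_eq_zero_right hab
        rw [hb, zero_smul, add_zero] at hab
        exact ⟨(smul_eq_zero.1 hab).resolve_right hv, hb⟩
      · fin_cases i <;> fin_cases j <;> simp [hvv, hwv, hww, herm_eq_zero_symm hF hwv]
    let e : (Σ v : {v : Fin n → F // hermForm n F q v v = 0 ∧ v ≠ 0},
        {w : Fin n → F // hermForm n F q w v.1 = 0 ∧ hermForm n F q w w = 0 ∧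
          ∀ a : F, w ≠ a • v.1}) ≃ P :=
      { toFun := fun x => ⟨![x.1.1, x.2.1], hmk _ _ x.1.2.2 x.1.2.1 x.2.2.1 x.2.2.2.1 x.2.2.2.2⟩
        invFun := fun p => ⟨⟨p.1 0, p.2.2 0 0, p.2.1.ne_zero 0⟩, p.1 1, p.2.2 1 0, p.2.2 1 1,
          fun a ha => by
            have h := p.2.1
            rw [show p.1 = ![p.1 0, p.1 1] by ext i; fin_cases i <;> rfl,
              LinearIndependent.pair_iff] at h
            have := (h a (-1) (by rw [ha]; simp)).2
            simp at this⟩
        left_inv := fun x => rfl
        right_inv := fun p => Subtype.ext (by ext i; fin_cases i <;> rfl) }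
    rw [← Nat.card_congr e, Nat.card_sigma,
      Finset.sum_congr rfl fun v _ => card_orth_iso hF v.2.2 v.2.1, Finset.sum_const,
      Finset.card_univ, smul_eq_mul]
    congr 1
    rw [countNull, Nat.card_eq_fintype_card, Fintype.card_subtype, Fintype.card_subtype,
      show (Finset.univ.filter fun x : Fin n → F => hermForm n F q x x = 0 ∧ x ≠ 0) =
      (Finset.univ.filter fun x : Fin n → F => hermForm n F q x x = 0).erase 0 by
        ext x; simp [and_comm], Finset.card_erase_of_mem (by simp [herm_zero_left])]
  exact h1.symm.trans h2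

end Cfsg.Agent.Lib.Unitary
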